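import Cfsg.Agent.Lib.Leech.HS
import Cfsg.Agent.Lib.LeechMod.Symm

/-!
Orbits filling the levels of an invariant, transport of orbits, and inner products of coded vectors.
-/

set_option autoImplicit false

namespace Cfsg.Agent.LeechOrbit

open Cfsg Cfsg.Agent.Golay Cfsg.Agent.Leech Cfsg.Agent.LeechMod

/-- Sets inside the levels of `f` with sizes adding up to the whole are the levels. -/
theorem fill_levels {α : Type*} {n : ℕ} {S : Set α} (hS : S.Finite) (f : α → ℤ) (k : Fin n → ℤ)
    (hk : Function.Injective k) (O : Fin n → Set α) (hO : ∀ i, O i ⊆ {x ∈ S | f x = k i})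
    (m : Fin n → ℕ) (hm : ∀ i, m i ≤ (O i).ncard) (hsum : ∑ i, m i = S.ncard) :
    (∀ i, (O i).ncard = m i) ∧ (∀ i, O i = {x ∈ S | f x = k i}) ∧ S = ⋃ i, O i := by
  classical
  haveI : Fintype S := hS.fintype
  have hfin : ∀ i, (O i).Finite := fun i => hS.subset fun x hx => (hO i hx).1
  have hdisj : Pairwise (Function.onFun Disjoint O) := fun i j hij => Set.disjoint_left.2 fun x hi hj =>
    hij (hk ((hO i hi).2.symm.trans (hO j hj).2))
  have hU : (⋃ i, O i) ⊆ S := Set.iUnion_subset fun i x hx => (hO i hx).1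
  have hcard : (⋃ i, O i).ncard = ∑ i, (O i).ncard := by
    rw [Set.ncard_iUnion_of_finite (fun i => hfin i) hdisj, finsum_eq_sum_of_fintype]
  have hle : ∑ i, (O i).ncard ≤ ∑ i, m i := by rw [← hcard, hsum]; exact Set.ncard_le_ncard hU hS
  have heq : ∀ i, (O i).ncard = m i := fun i =>
    ((Finset.sum_eq_sum_iff_of_le fun j _ => hm j).1
      (le_antisymm (Finset.sum_le_sum fun j _ => hm j) hle) i (Finset.mem_univ i)).symm
  have hall : (⋃ i, O i) = S := Set.eq_of_subset_of_ncard_le hU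
    (by rw [hcard, ← hsum]; exact Finset.sum_le_sum fun j _ => hm j) hS
  refine ⟨heq, fun i => (hO i).antisymm fun x hx => ?_, hall.symm⟩
  obtain ⟨j, hj⟩ := Set.mem_iUnion.1 (hall.ge hx.1)
  rwa [hk (hx.2.symm.trans (hO j hj).2)]

/-- An element conjugating one subgroup to another carries orbits to orbits. -/
theorem orbit_conj {H H' : Subgroup Co0} (a : Co0) (h : ∀ g, g ∈ H' ↔ a⁻¹ * g * a ∈ H) (y : leechLattice) :
    MulAction.orbit H' (a • y) = (fun x => a • x) '' MulAction.orbit H y := by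
  ext z
  constructor
  · rintro ⟨g, rfl⟩
    refine ⟨(a⁻¹ * g.1 * a) • y, ⟨⟨_, (h g).1 g.2⟩, rfl⟩, ?_⟩
    show a • (a⁻¹ * g.1 * a) • y = g.1 • a • y
    rw [mul_smul, mul_smul, smul_inv_smul]
  · rintro ⟨_, ⟨g, rfl⟩, rfl⟩
    refine ⟨⟨a * g.1 * a⁻¹, (h _).2 (by simp [mul_assoc])⟩, ?_⟩
    show (a * g.1 * a⁻¹) • a • y = a • g.1 • y
    rw [mul_smul, mul_smul, inv_smul_smul]

theorem ncard_orbit_conj {H H' : Subgroup Co0} (a : Co0) (h : ∀ g, g ∈ H' ↔ a⁻¹ * g * a ∈ H)
    (y : leechLattice) : (MulAction.orbit H' (a • y)).ncard = (MulAction.orbit H y).ncard := by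
  rw [orbit_conj a h, Set.ncard_image_of_injective _ (MulAction.injective a)]

theorem fix_conj {a g : Co0} {v : leechLattice} : g • a • v = a • v ↔ (a⁻¹ * g * a) • v = v := by
  rw [mul_smul, mul_smul, inv_smul_eq_iff]

/-- Inner products from lists of coordinates. -/
theorem ip_toVec {x y : leechLattice} {l m : List ℤ} {n : ℤ} (hx : toVec l = (x : GolayPt → ℤ))
    (hy : toVec m = (y : GolayPt → ℤ)) (h : decide (dotInt (toVec l) (toVec m) = 8 * n) = true) : ip x y = n :=
  ip_eq_of_dot (by rw [← hx, ← hy]; exact of_decide_eq_true h)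

/-- The coordinates of `vec6`. -/
def uList : List ℤ := List.replicate 23 1 ++ [5]
/-- The coordinates of `dVec`. -/
def dList : List ℤ := (-4) :: List.replicate 22 0 ++ [4]
/-- The coordinates of `stdA`. -/
def aList : List ℤ := 4 :: List.replicate 22 0 ++ [4]

theorem toVec_uList : toVec uList = (vec6 : GolayPt → ℤ) := by
  funext i; rw [vec6_apply]; revert i; decide

theorem toVec_dList : toVec dList = (dVec : GolayPt → ℤ) := by
  funext i; rw [dVec_apply]; revert i; decide

theorem toVec_aList : toVec aList = (stdA : GolayPt → ℤ) := by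
  funext i; rw [stdA_apply]; revert i; decide

end Cfsg.Agent.LeechOrbit
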