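import Cfsg.Agent.Lib.LeechOrbit.Cert

/-!
The suborbits of a vector stabiliser of type 3 on 11178 minimal vectors and of a stabiliser of a
triangle on 2025 minimal vectors.
-/

set_option autoImplicit false
set_option maxRecDepth 10000

namespace Cfsg.Agent.LeechOrbit

open Cfsg Cfsg.Agent.Golay Cfsg.Agent.Leech Cfsg.Agent.LeechMod Cfsg.Agent.SporPerm
open MulAction (stabilizer orbit)

theorem rootOK_spec {a b : List ℤ} {p q : ℤ} {c : ℕ} (h : rootOK a b p q c = true) {x y : leechLattice}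
    (hx : toVec a = (x : GolayPt → ℤ)) (hy : toVec b = (y : GolayPt → ℤ)) :
    ∃ z : leechLattice, toVec (dec 24 c) = (z : GolayPt → ℤ) ∧ ip z z = 4 ∧ ip x z = p ∧ ip y z = q := by
  simp only [rootOK, Bool.and_eq_true] at h
  exact ⟨⟨_, mem_of_inLB h.1.1.1⟩, rfl, ip_toVec rfl rfl h.1.1.2, ip_toVec hx rfl h.1.2, ip_toVec hy rfl h.2⟩

theorem exists_fixing {M : List (List ℤ)} (hM : matOK M = true) : ∃ g : Co0,
    (∀ v : leechLattice, ((g • v : leechLattice) : GolayPt → ℤ) = mapMat (toMat M) v) ∧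
    ∀ l (v : leechLattice), fixOK M l = true → toVec l = (v : GolayPt → ℤ) → g • v = v := by
  obtain ⟨g, hg, -⟩ := exists_of_matOK hM
  exact ⟨g, hg, fun l v hl hv => smul_eq_of_fixOK hM hl hg hv.symm⟩

theorem finite_shell (s : Set leechLattice) (h : ∀ x ∈ s, ip x x = 4) : s.Finite :=
  (Set.finite_of_ncard_ne_zero (s := {x : leechLattice | ip x x = 4})
    (ncard_shell4.trans_ne (by norm_num))).subset h

/-! ### The 11178 vectors -/

/-- The base point among the 11178 vectors. -/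
def x0 : leechLattice := -dVec

/-- The joint stabiliser. -/
noncomputable abbrev co3H : Subgroup Co0 := stabilizer Co0 vec6 ⊓ stabilizer Co0 x0

/-- The 11178 vectors. -/
def co3Set : Set leechLattice := {x | ip x x = 4 ∧ ip vec6 x = -2}

theorem co3H_eq : co3H = hsSub := by
  ext g
  simp only [Subgroup.mem_inf, MulAction.mem_stabilizer_iff, x0, co0_neg, neg_inj, dVec, co0_add]
  exact and_congr_right fun h => by rw [h, add_right_inj]

theorem x0_mem : x0 ∈ co3Set ∧ ip x0 x0 = 4 := by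
  have h : ip x0 x0 = 4 := by
    rw [x0, LatticeMod2.neg_left rootless_ip, ip_comm, LatticeMod2.neg_left rootless_ip, neg_neg, norm_dVec]
  exact ⟨⟨h, by rw [x0, ip_comm, LatticeMod2.neg_left rootless_ip, ip_comm, ip_vec6_dVec]⟩, h⟩

theorem ip_x0 (y : leechLattice) : ip x0 y = -ip dVec y := LatticeMod2.neg_left rootless_ip _ _

theorem co3_orbit_subset {y : leechLattice} {k : ℤ} (hy : y ∈ co3Set) (hk : ip x0 y = k) :
    orbit co3H y ⊆ {z ∈ co3Set | ip x0 z = k} := by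
  rintro z ⟨g, rfl⟩
  refine ⟨⟨(co0_ip g.1 y y).trans hy.1, ?_⟩, ?_⟩
  · show ip vec6 (g.1 • y) = -2
    rw [← show g.1 • vec6 = vec6 from g.2.1, co0_ip]; exact hy.2
  · show ip x0 (g.1 • y) = k
    rw [← show g.1 • x0 = x0 from g.2.2, co0_ip]; exact hk

theorem co3_gens : ∀ M ∈ [hsMat0, hsMat1], ∃ g ∈ co3H,
    ∀ v : leechLattice, ((g • v : leechLattice) : GolayPt → ℤ) = mapMat (toMat M) v := by
  intro M hM
  have key : fixOK M uList = true ∧ fixOK M dList = true ∧ matOK M = true := by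
    simp only [List.mem_cons, List.not_mem_nil, or_false] at hM
    rcases hM with rfl | rfl
    exacts [hs_fix.1, hs_fix.2]
  obtain ⟨g, hg, hf⟩ := exists_fixing key.2.2
  refine ⟨g, ⟨hf _ _ key.1 toVec_uList, ?_⟩, hg⟩
  show g • x0 = x0
  rw [x0, co0_neg, hf _ _ key.2.1 toVec_dList]

/-- **The suborbits on the 11178 vectors.** -/
theorem co3_levels : ∃ y₁ ∈ co3Set, ∃ y₂ ∈ co3Set, ∃ y₃ ∈ co3Set, ∃ y₄ ∈ co3Set,
    (orbit co3H y₁).ncard = 352 ∧ (orbit co3H y₂).ncard = 1100 ∧ (orbit co3H y₃).ncard = 4125 ∧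
    (orbit co3H y₄).ncard = 5600 ∧
    co3Set = {x0} ∪ orbit co3H y₁ ∪ orbit co3H y₂ ∪ orbit co3H y₃ ∪ orbit co3H y₄ ∧
    orbit co3H y₁ = {z ∈ co3Set | ip x0 z = -1} := by
  obtain ⟨r1, r2, r3, r4⟩ := hs_roots
  obtain ⟨t1, t2, t3, t4⟩ := hs_tree
  obtain ⟨l1, l2, l3, l4⟩ := hs_len
  obtain ⟨y₁, v1, a1, b1, c1⟩ := rootOK_spec r1 toVec_uList toVec_dList
  obtain ⟨y₂, v2, a2, b2, c2⟩ := rootOK_spec r2 toVec_uList toVec_dList
  obtain ⟨y₃, v3, a3, b3, c3⟩ := rootOK_spec r3 toVec_uList toVec_dList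
  obtain ⟨y₄, v4, a4, b4, c4⟩ := rootOK_spec r4 toVec_uList toVec_dList
  have hfin : co3Set.Finite := finite_shell _ fun x hx => hx.1
  have s1 := co3_orbit_subset (k := -1) ⟨a1, b1⟩ (by rw [ip_x0, c1])
  have s2 := co3_orbit_subset (k := 2) ⟨a2, b2⟩ (by rw [ip_x0, c2]; norm_num)
  have s3 := co3_orbit_subset (k := 0) ⟨a3, b3⟩ (by rw [ip_x0, c3]; norm_num)
  have s4 := co3_orbit_subset (k := 1) ⟨a4, b4⟩ (by rw [ip_x0, c4]; norm_num)
  have low : ∀ {root : ℕ} {T : List (List ℕ)}, treeOK hsCols root T = true → ∀ {y : leechLattice} {k : ℤ},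
      toVec (dec 24 root) = (y : GolayPt → ℤ) → orbit co3H y ⊆ {z ∈ co3Set | ip x0 z = k} →
      T.flatten.length ≤ (orbit co3H y).ncard := fun {root T} ht {y k} hv hs =>
    orbit_card ht hs_cols hs_small co3_gens hv hfin fun z hz => (hs hz).1
  obtain ⟨hN, hO, hU⟩ := fill_levels (n := 5) hfin (fun z => ip x0 z) ![4, -1, 2, 0, 1] (by decide)
    ![{x0}, orbit co3H y₁, orbit co3H y₂, orbit co3H y₃, orbit co3H y₄]
    (by
      intro i
      fin_cases i
      · exact Set.singleton_subset_iff.2 x0_mem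
      exacts [s1, s2, s3, s4])
    ![1, 352, 1100, 4125, 5600]
    (by
      intro i
      fin_cases i
      · simp
      · exact l1 ▸ low t1 v1 s1
      · exact l2 ▸ low t2 v2 s2
      · exact l3 ▸ low t3 v3 s3
      · exact l4 ▸ low t4 v4 s4)
    (by rw [show co3Set.ncard = 11178 from (neg2_count norm_vec6).1]; simp [Fin.sum_univ_succ])
  refine ⟨y₁, ⟨a1, b1⟩, y₂, ⟨a2, b2⟩, y₃, ⟨a3, b3⟩, y₄, ⟨a4, b4⟩, hN 1, hN 2, hN 3, hN 4, ?_, hO 1⟩
  refine hU.trans ?_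
  ext z
  simp [Fin.exists_fin_succ, or_assoc]

/-! ### The 2025 vectors -/

/-- The second vector of the standard triangle. -/
def w1 : leechLattice := vec6 - stdA

/-- The standard triangle stabiliser of one of the 2025 vectors. -/
noncomputable abbrev mclH : Subgroup Co0 :=
  stabilizer Co0 stdA ⊓ stabilizer Co0 w1 ⊓ stabilizer Co0 dVec

/-- The 2025 vectors. -/
def mclSet2025 : Set leechLattice := {x | ip x x = 4 ∧ ip stdA x = 0 ∧ ip w1 x = 2}

theorem ip_w1 (x : leechLattice) : ip w1 x = ip vec6 x - ip stdA x := by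
  rw [w1, sub_eq_add_neg, rootless_ip.add, LatticeMod2.neg_left rootless_ip]; ring

theorem mem_2025 {x : leechLattice} : x ∈ mclSet2025 ↔ ip x x = 4 ∧ ip vec6 x = 2 ∧ ip stdA x = 0 := by
  show _ ∧ _ ∧ _ ↔ _
  rw [ip_w1]; omega

theorem ip_stdA_dVec : ip stdA dVec = 0 :=
  ip_toVec toVec_aList toVec_dList (by decide +kernel)

theorem dVec_mem : dVec ∈ mclSet2025 := mem_2025.2 ⟨norm_dVec, ip_vec6_dVec, ip_stdA_dVec⟩

theorem w1_facts : ip w1 w1 = 4 ∧ ip stdA w1 = -1 := by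
  have h : ip stdA w1 = -1 := by
    rw [ip_comm, ip_w1, ip_stdA, ip_stdA_vec6]; norm_num
  refine ⟨?_, h⟩
  rw [ip_w1, ip_comm, ip_w1, norm_vec6, h, ip_comm stdA vec6, ip_stdA_vec6]; norm_num

theorem mem_mcl_pair {g : Co0} : g ∈ stabilizer Co0 stdA ⊓ stabilizer Co0 w1 ↔
    g • vec6 = vec6 ∧ g • stdA = stdA := by
  simp only [Subgroup.mem_inf, MulAction.mem_stabilizer_iff, w1, co0_sub]
  exact ⟨fun ⟨a, b⟩ => ⟨by rw [a] at b; exact sub_left_inj.1 b, a⟩, fun ⟨a, b⟩ => ⟨b, by rw [a, b]⟩⟩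

/-- Transitivity on the 2025 vectors. -/
theorem transitive_2025 {x : leechLattice} (hx : x ∈ mclSet2025) :
    ∃ g ∈ stabilizer Co0 stdA ⊓ stabilizer Co0 w1, g • dVec = x := by
  obtain ⟨h1, h2, h3⟩ := mem_2025.1 hx
  have hn : ∀ y : leechLattice, ip (-y) (-y) = ip y y := fun y => by
    rw [LatticeMod2.neg_left rootless_ip, ip_comm, LatticeMod2.neg_left rootless_ip, neg_neg]
  obtain ⟨g, g1, g2⟩ := (neg2_count norm_vec6).2 x0 x0_mem.1 (-x)
    ⟨(hn x).trans h1, by rw [ip_comm, LatticeMod2.neg_left rootless_ip, ip_comm, h2]⟩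
  rw [x0, co0_neg, neg_inj] at g2
  have hv : g • vec6' = x - vec6 := by
    rw [show vec6' = dVec - vec6 by rw [dVec]; abel, co0_sub, g2, g1]
  obtain ⟨h, a1, a2, a3⟩ := hs_transitive (u := vec6) (u' := g • vec6') (x := g • stdA) (x' := stdA)
    norm_vec6 ((co0_ip g _ _).trans norm_vec6') ((congrArg (ip · (g • vec6')) g1).symm.trans
      ((co0_ip g _ _).trans ip_vec6_vec6'))
    ⟨(co0_ip g _ _).trans ip_stdA, (congrArg (ip · (g • stdA)) g1).symm.trans
        ((co0_ip g _ _).trans ip_stdA_vec6), (co0_ip g _ _).trans ip_stdA_vec6'⟩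
    ⟨ip_stdA, ip_stdA_vec6, by
      rw [hv, sub_eq_add_neg, rootless_ip.add, LatticeMod2.neg_left rootless_ip, ip_comm, h3,
        ip_stdA_vec6]; norm_num⟩
  refine ⟨h * g, mem_mcl_pair.2 ⟨by rw [mul_smul, g1, a1], by rw [mul_smul, a3]⟩, ?_⟩
  rw [mul_smul, g2]
  rw [hv, co0_sub, a1] at a2
  exact sub_left_inj.1 a2

theorem mclH_eq : mclH = permSub [{(none : GolayPt)}, {some 0}] := by
  rw [← hs_stab_stdA]
  refine le_antisymm ?_ ?_
  · rintro g ⟨hp, hd⟩
    obtain ⟨h1, h2⟩ := mem_mcl_pair.1 hp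
    refine ⟨⟨h1, ?_⟩, h2⟩
    show g • vec6' = vec6'
    rw [show vec6' = dVec - vec6 by rw [dVec]; abel, co0_sub, show g • dVec = dVec from hd, h1]
  · rintro g ⟨⟨h1, h2⟩, h3⟩
    refine ⟨mem_mcl_pair.2 ⟨h1, h3⟩, ?_⟩
    show g • dVec = dVec
    rw [dVec, co0_add, show g • vec6 = vec6 from h1, show g • vec6' = vec6' from h2]

theorem stab_pair_maps {g : Co0} (hg : g ∈ stabilizer Co0 stdA ⊓ stabilizer Co0 w1) {x : leechLattice}
    (hx : x ∈ mclSet2025) : g • x ∈ mclSet2025 := by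
  obtain ⟨a, b, c⟩ := hx
  exact ⟨(co0_ip g x x).trans a, by rw [← show g • stdA = stdA from hg.1, co0_ip]; exact b,
    by rw [← show g • w1 = w1 from hg.2, co0_ip]; exact c⟩

theorem ncard_2025 : mclSet2025.ncard = 2025 := by
  have := card_stab_mul (stabilizer Co0 stdA ⊓ stabilizer Co0 w1) dVec mclSet2025 dVec_mem
    (fun g hg x hx => stab_pair_maps hg hx) (fun x hx => transitive_2025 hx)
  rw [show (stabilizer Co0 stdA ⊓ stabilizer Co0 w1 ⊓ stabilizer Co0 dVec : Subgroup Co0) = mclH from rfl,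
    mclH_eq, card_permSub22, card_stab_neg1 ip_stdA w1_facts.1 w1_facts.2] at this
  omega

theorem mcl_gens : ∀ M ∈ [m22Mat0, m22Mat1], ∃ g ∈ mclH,
    ∀ v : leechLattice, ((g • v : leechLattice) : GolayPt → ℤ) = mapMat (toMat M) v := by
  intro M hM
  have key : matOK M = true ∧ fixOK M uList = true ∧ fixOK M dList = true ∧ fixOK M aList = true := by
    simp only [List.mem_cons, List.not_mem_nil, or_false] at hM
    rcases hM with rfl | rfl
    exacts [m22_mats.1, m22_mats.2]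
  obtain ⟨g, hg, hf⟩ := exists_fixing key.1
  exact ⟨g, ⟨mem_mcl_pair.2 ⟨hf _ _ key.2.1 toVec_uList, hf _ _ key.2.2.2 toVec_aList⟩,
    hf _ _ key.2.2.1 toVec_dList⟩, hg⟩

/-- **The suborbits on the 2025 vectors.** -/
theorem mcl_levels : ∃ y₁ ∈ mclSet2025, ∃ y₂ ∈ mclSet2025, ∃ y₃ ∈ mclSet2025,
    (orbit mclH y₁).ncard = 330 ∧ (orbit mclH y₂).ncard = 462 ∧ (orbit mclH y₃).ncard = 1232 := by
  obtain ⟨r1, r2, r3, rd⟩ := m22_roots
  simp only [Bool.and_eq_true] at rd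
  obtain ⟨⟨d1, d2⟩, d3⟩ := rd
  obtain ⟨t1, t2, t3⟩ := m22_tree
  obtain ⟨l1, l2, l3⟩ := m22_len
  obtain ⟨y₁, v1, a1, b1, c1⟩ := rootOK_spec r1 toVec_uList toVec_aList
  obtain ⟨y₂, v2, a2, b2, c2⟩ := rootOK_spec r2 toVec_uList toVec_aList
  obtain ⟨y₃, v3, a3, b3, c3⟩ := rootOK_spec r3 toVec_uList toVec_aList
  have m1 := mem_2025.2 ⟨a1, b1, c1⟩
  have m2 := mem_2025.2 ⟨a2, b2, c2⟩
  have m3 := mem_2025.2 ⟨a3, b3, c3⟩
  have hfin : mclSet2025.Finite := finite_shell _ fun x hx => hx.1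
  have sub : ∀ {y : leechLattice} {k : ℤ}, y ∈ mclSet2025 → ip dVec y = k →
      orbit mclH y ⊆ {z ∈ mclSet2025 | ip dVec z = k} := by
    rintro y k hy hk z ⟨g, rfl⟩
    refine ⟨stab_pair_maps g.2.1 hy, ?_⟩
    show ip dVec (g.1 • y) = k
    rw [← show g.1 • dVec = dVec from g.2.2, co0_ip]; exact hk
  have s1 := sub m1 (ip_toVec toVec_dList v1 d1)
  have s2 := sub m2 (ip_toVec toVec_dList v2 d2)
  have s3 := sub m3 (ip_toVec toVec_dList v3 d3)
  obtain ⟨hN, -, -⟩ := fill_levels (n := 4) hfin (fun z => ip dVec z) ![4, 0, 2, 1] (by decide)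
    ![{dVec}, orbit mclH y₁, orbit mclH y₂, orbit mclH y₃]
    (by
      intro i
      fin_cases i
      · exact Set.singleton_subset_iff.2 ⟨dVec_mem, norm_dVec⟩
      exacts [s1, s2, s3])
    ![1, 330, 462, 1232]
    (by
      intro i
      fin_cases i
      · simp
      · exact l1 ▸ orbit_card t1 m22_cols m22_small mcl_gens v1 hfin fun z hz => (s1 hz).1
      · exact l2 ▸ orbit_card t2 m22_cols m22_small mcl_gens v2 hfin fun z hz => (s2 hz).1
      · exact l3 ▸ orbit_card t3 m22_cols m22_small mcl_gens v3 hfin fun z hz => (s3 hz).1)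
    (by rw [ncard_2025]; simp [Fin.sum_univ_succ])
  exact ⟨y₁, m1, y₂, m2, y₃, m3, hN 1, hN 2, hN 3⟩

end Cfsg.Agent.LeechOrbit
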