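import Cfsg.Agent.Lib.LeechOrbit.Check
import Cfsg.Agent.Lib.LeechOrbit.Co3Data
import Cfsg.Agent.Lib.LeechOrbit.M22Data
import Cfsg.Agent.Lib.LeechOrbit.Partition
import Cfsg.Agent.Lib.SporPerm.HSData

/-! Kernel checks of the orbit tables. -/

set_option autoImplicit false
set_option maxRecDepth 20000
set_option Elab.async false

namespace Cfsg.Agent.LeechOrbit

open Cfsg.Agent.LeechMod Cfsg.Agent.SporPerm

theorem hs_tree : treeOK hsCols hsARoot hsATree = true ∧ treeOK hsCols hsBRoot hsBTree = true ∧
    treeOK hsCols hsCRoot hsCTree = true ∧ treeOK hsCols hsDRoot hsDTree = true := by decide +kernel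

theorem hs_len : hsATree.flatten.length = 352 ∧ hsBTree.flatten.length = 1100 ∧
    hsCTree.flatten.length = 4125 ∧ hsDTree.flatten.length = 5600 := by decide +kernel

theorem hs_small : [hsMat0, hsMat1].all smallOK = true := by decide +kernel

theorem hs_cols : List.Forall₂ (fun M P => colsOK M P = true) [hsMat0, hsMat1] hsCols := by
  rw [show hsCols = [hsCols.getD 0 ([], 0), hsCols.getD 1 ([], 0)] from rfl]
  refine List.Forall₂.cons ?_ (List.Forall₂.cons ?_ List.Forall₂.nil) <;> decide +kernel

/-- A root is a minimal vector with given inner products with two vectors. -/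
def rootOK (a b : List ℤ) (p q : ℤ) (c : ℕ) : Bool :=
  inLB (toVec (dec 24 c)) && decide (Cfsg.dotInt (toVec (dec 24 c)) (toVec (dec 24 c)) = 8 * 4) &&
    decide (Cfsg.dotInt (toVec a) (toVec (dec 24 c)) = 8 * p) &&
      decide (Cfsg.dotInt (toVec b) (toVec (dec 24 c)) = 8 * q)

theorem hs_roots : rootOK uList dList (-2) 1 hsARoot = true ∧ rootOK uList dList (-2) (-2) hsBRoot = true ∧
    rootOK uList dList (-2) 0 hsCRoot = true ∧ rootOK uList dList (-2) (-1) hsDRoot = true := by decide +kernel

theorem m22_tree : treeOK m22Cols mARoot mATree = true ∧ treeOK m22Cols mBRoot mBTree = true ∧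
    treeOK m22Cols mCRoot mCTree = true := by decide +kernel

theorem m22_len : mATree.flatten.length = 330 ∧ mBTree.flatten.length = 462 ∧
    mCTree.flatten.length = 1232 := by decide +kernel

theorem m22_small : [m22Mat0, m22Mat1].all smallOK = true := by decide +kernel

theorem m22_cols : List.Forall₂ (fun M P => colsOK M P = true) [m22Mat0, m22Mat1] m22Cols := by
  rw [show m22Cols = [m22Cols.getD 0 ([], 0), m22Cols.getD 1 ([], 0)] from rfl]
  refine List.Forall₂.cons ?_ (List.Forall₂.cons ?_ List.Forall₂.nil) <;> decide +kernel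

theorem m22_mats : (matOK m22Mat0 = true ∧ fixOK m22Mat0 uList = true ∧ fixOK m22Mat0 dList = true ∧
      fixOK m22Mat0 aList = true) ∧ (matOK m22Mat1 = true ∧ fixOK m22Mat1 uList = true ∧
      fixOK m22Mat1 dList = true ∧ fixOK m22Mat1 aList = true) := by decide +kernel

theorem m22_roots : rootOK uList aList 2 0 mARoot = true ∧ rootOK uList aList 2 0 mBRoot = true ∧
    rootOK uList aList 2 0 mCRoot = true ∧
    (decide (Cfsg.dotInt (toVec dList) (toVec (dec 24 mARoot)) = 8 * 0) &&
      decide (Cfsg.dotInt (toVec dList) (toVec (dec 24 mBRoot)) = 8 * 2) &&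
        decide (Cfsg.dotInt (toVec dList) (toVec (dec 24 mCRoot)) = 8 * 1)) = true := by decide +kernel

theorem hs_fix : (fixOK hsMat0 uList = true ∧ fixOK hsMat0 dList = true ∧ matOK hsMat0 = true) ∧
    (fixOK hsMat1 uList = true ∧ fixOK hsMat1 dList = true ∧ matOK hsMat1 = true) := by decide +kernel

end Cfsg.Agent.LeechOrbit
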