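import Cfsg.Agent.Lib.SporPerm.Realise

/-!
Checked orbit tables of vectors of the Leech lattice under automorphisms given by matrices.
Vectors are coded by 24 digits in base 16 with offset 8, the products `M v` are compared after
packing the 24 rows into one integer.
-/

set_option autoImplicit false

namespace Cfsg.Agent.LeechOrbit

open Cfsg Cfsg.Agent.Golay Cfsg.Agent.Leech Cfsg.Agent.LeechMod Cfsg.Agent.SporPerm

/-- The vector of a code. -/
def dec : ℕ → ℕ → List ℤ
  | 0, _ => []
  | n + 1, c => (((c % 16 : ℕ) : ℤ) - 8) :: dec n (c / 16)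

theorem length_dec : ∀ n c, (dec n c).length = n
  | 0, _ => rfl
  | n + 1, c => by simp [dec, length_dec n]

theorem dec_bound : ∀ n c, ∀ a ∈ dec n c, |a| ≤ 8
  | 0, _ => by simp [dec]
  | n + 1, c => by
    intro a ha
    simp only [dec, List.mem_cons] at ha
    rcases ha with rfl | ha
    · have := Nat.mod_lt c (show 16 > 0 by norm_num); rw [abs_le]; omega
    · exact dec_bound n _ a ha

theorem dec_injective : ∀ n c d, c < 16 ^ n → d < 16 ^ n → dec n c = dec n d → c = d
  | 0, c, d, hc, hd, _ => by simp at hc hd; omega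
  | n + 1, c, d, hc, hd, h => by
    simp only [dec, List.cons.injEq] at h
    have := dec_injective n (c / 16) (d / 16) (by rw [pow_succ] at hc; omega)
      (by rw [pow_succ] at hd; omega) h.2
    omega

/-- The packing of a list. -/
def enc : List ℤ → ℤ
  | [] => 0
  | a :: l => a + 65536 * enc l

/-- The packed columns of a matrix. -/
def colsEnc : List (List ℤ) → List ℤ
  | [] => List.replicate 24 0
  | r :: M => List.zipWith (fun a b => a + 65536 * b) r (colsEnc M)

theorem length_colsEnc : ∀ M : List (List ℤ), (∀ r ∈ M, r.length = 24) → (colsEnc M).length = 24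
  | [], _ => rfl
  | r :: M, h => by
    simp [colsEnc, h r List.mem_cons_self, length_colsEnc M fun s hs => h s (List.mem_cons_of_mem _ hs)]

theorem rowDot_zip : ∀ r c v : List ℤ, r.length = c.length →
    rowDot (List.zipWith (fun a b => a + 65536 * b) r c) v = rowDot r v + 65536 * rowDot c v
  | [], [], _, _ => by simp [rowDot]
  | a :: r, b :: c, [], _ => by simp [rowDot]
  | a :: r, b :: c, x :: v, h => by
    simp only [List.zipWith_cons_cons, rowDot, rowDot_zip r c v (by simpa using h)]; ring
  | [], _ :: _, _, h => by simp at h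
  | _ :: _, [], _, h => by simp at h

theorem rowDot_replicate : ∀ n v, rowDot (List.replicate n 0) v = 0
  | 0, _ => by simp [rowDot]
  | n + 1, [] => by simp [List.replicate_succ, rowDot]
  | n + 1, x :: v => by simp [List.replicate_succ, rowDot, rowDot_replicate n v]

theorem rowDot_colsEnc (v : List ℤ) : ∀ M : List (List ℤ), (∀ r ∈ M, r.length = 24) →
    rowDot (colsEnc M) v = enc (M.map fun r => rowDot r v)
  | [], _ => by rw [colsEnc]; exact rowDot_replicate 24 v
  | r :: M, h => by
    have hM : ∀ s ∈ M, s.length = 24 := fun s hs => h s (List.mem_cons_of_mem _ hs)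
    rw [colsEnc, rowDot_zip _ _ _ (by rw [h r List.mem_cons_self, length_colsEnc M hM]),
      rowDot_colsEnc v M hM]
    rfl

theorem abs_rowDot : ∀ r v : List ℤ, (∀ a ∈ r, |a| ≤ 8) → (∀ b ∈ v, |b| ≤ 8) →
    |rowDot r v| ≤ 64 * r.length
  | [], v, _, _ => by simp [rowDot]
  | a :: r, [], _, _ => by simp [rowDot]; omega
  | a :: r, b :: v, hr, hv => by
    have h1 := abs_rowDot r v (fun x hx => hr x (List.mem_cons_of_mem _ hx))
      (fun x hx => hv x (List.mem_cons_of_mem _ hx))
    have h2 : |a * b| ≤ 64 := by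
      rw [abs_mul]
      exact (mul_le_mul (hr a List.mem_cons_self) (hv b List.mem_cons_self) (abs_nonneg _)
        (by norm_num)).trans (by norm_num)
    simp only [rowDot, List.length_cons, Nat.cast_add, Nat.cast_one]
    exact (abs_add_le _ _).trans (by linarith)

theorem enc_eq_mul : ∀ l w : List ℤ, l.length = w.length → (∀ a ∈ l, |a| ≤ 2000) → (∀ b ∈ w, |b| ≤ 8) →
    enc l = 8 * enc w → l = w.map fun b => 8 * b
  | [], [], _, _, _, _ => rfl
  | [], _ :: _, h, _, _, _ => by simp at h
  | _ :: _, [], h, _, _, _ => by simp at h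
  | a :: l, b :: w, h, hl, hw, he => by
    have ha := abs_le.1 (hl a List.mem_cons_self)
    have hb := abs_le.1 (hw b List.mem_cons_self)
    simp only [enc] at he
    have hab : a = 8 * b := by omega
    rw [enc_eq_mul l w (by simpa using h) (fun x hx => hl x (List.mem_cons_of_mem _ hx))
      (fun x hx => hw x (List.mem_cons_of_mem _ hx)) (by omega), hab]
    rfl

/-- A matrix with 24 short rows of small entries. -/
def smallOK (M : List (List ℤ)) : Bool :=
  shapeOK M && M.all fun r => r.all fun a => decide (-8 ≤ a) && decide (a ≤ 8)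

/-- A natural form of a dot product with the digits of a code. -/
def dotN : List ℕ → ℕ → ℕ
  | [], _ => 0
  | C :: Cs, c => Nat.add (Nat.mul (Nat.mod c 16) C) (dotN Cs (Nat.div c 16))

/-- The sum of the digits. -/
def digSum : ℕ → ℕ → ℕ
  | 0, _ => 0
  | n + 1, c => Nat.add (Nat.mod c 16) (digSum n (Nat.div c 16))

/-- The packing of the digits. -/
def encN : ℕ → ℕ → ℕ
  | 0, _ => 0
  | n + 1, c => Nat.add (Nat.mod c 16) (Nat.mul 65536 (encN n (Nat.div c 16)))

/-- The packing of 24 ones. -/
def onesN : ℕ → ℕ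
  | 0 => 0
  | n + 1 => Nat.add 1 (Nat.mul 65536 (onesN n))

theorem enc_dec : ∀ n c, enc (dec n c) = (encN n c : ℤ) - 8 * (onesN n : ℤ)
  | 0, _ => by simp [enc, dec, encN, onesN]
  | n + 1, c => by
    rw [show encN (n + 1) c = c % 16 + 65536 * encN n (c / 16) from rfl,
      show onesN (n + 1) = 1 + 65536 * onesN n from rfl]
    simp only [enc, dec, enc_dec n, Nat.cast_add, Nat.cast_mul, Nat.cast_ofNat, Nat.cast_one]
    ring

theorem rowDot_dec (E : ℕ) : ∀ Cs : List ℕ, ∀ c,
    rowDot (Cs.map fun (C : ℕ) => (C : ℤ) - 8 * (E : ℤ)) (dec Cs.length c) =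
      (dotN Cs c : ℤ) - 8 * (Cs.sum : ℤ) - 8 * (E : ℤ) * (digSum Cs.length c : ℤ) + 64 * (E : ℤ) * (Cs.length : ℤ)
  | [], _ => by simp [rowDot, dec, dotN, digSum]
  | C :: Cs, c => by
    rw [show dotN (C :: Cs) c = c % 16 * C + dotN Cs (c / 16) from rfl, List.length_cons,
      show digSum (Cs.length + 1) c = c % 16 + digSum Cs.length (c / 16) from rfl]
    simp only [List.map_cons, dec, rowDot, rowDot_dec E Cs, List.sum_cons, Nat.cast_add, Nat.cast_mul,
      Nat.cast_one]
    ring

/-- The packing of 24 ones, as a number. -/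
def onesVal : ℕ := 601236075324551449031495233083750878234222007636613209246178277321213424452540026114507763101928979031153246209

theorem onesVal_eq : onesN 24 = onesVal := by decide +kernel

/-- `M v = 8 w`, packed: `P` lists the shifted columns and eight times their sum. -/
def imgOK (P : List ℕ × ℕ) (c d : ℕ) : Bool :=
  Nat.beq (Nat.add (dotN P.1 c) (Nat.mul 1600 onesVal))
    (Nat.add (Nat.add (Nat.mul 8 (encN 24 d)) P.2) (Nat.mul (Nat.mul 8 onesVal) (digSum 24 c)))

/-- The packed data belong to the matrix. -/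
def colsOK (M : List (List ℤ)) (P : List ℕ × ℕ) : Bool :=
  Nat.beq P.1.length 24 && Nat.beq P.2 (8 * P.1.sum) &&
    eqV (colsEnc M) (P.1.map fun (C : ℕ) => (C : ℤ) - 8 * (onesVal : ℤ))

theorem img_eq {M : List (List ℤ)} {P : List ℕ × ℕ} (hs : smallOK M = true) (hC : colsOK M P = true)
    {c d : ℕ} (h : imgOK P c d = true) :
    (M.map fun r => rowDot r (dec 24 c) / 8) = dec 24 d := by
  simp only [smallOK, shapeOK, Bool.and_eq_true, Nat.beq_eq, List.all_eq_true, decide_eq_true_eq] at hs
  simp only [colsOK, Bool.and_eq_true, Nat.beq_eq, eqV_iff] at hC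
  obtain ⟨⟨hlen, hsum⟩, hC⟩ := hC
  replace h : rowDot (colsEnc M) (dec 24 c) = 8 * enc (dec 24 d) := by
    have h' := Nat.eq_of_beq_eq_true h
    have h'' : (dotN P.1 c : ℤ) + 1600 * (onesVal : ℤ) =
        8 * (encN 24 d : ℤ) + (P.2 : ℤ) + 8 * (onesVal : ℤ) * (digSum 24 c : ℤ) := by
      exact_mod_cast h'
    have hr := rowDot_dec onesVal P.1 c
    rw [hlen] at hr
    rw [hC, hr, enc_dec, onesVal_eq]
    rw [hsum] at h''
    push_cast at h'' ⊢
    linarith
  rw [rowDot_colsEnc _ _ hs.1.2] at h
  have h1 := enc_eq_mul _ _ (by simp [hs.1.1, length_dec]) (fun a ha => ?_) (dec_bound _ _) h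
  · rw [show (M.map fun r => rowDot r (dec 24 c) / 8) = (M.map fun r => rowDot r (dec 24 c)).map (· / 8) from
      by rw [List.map_map]; rfl, h1, List.map_map]
    exact (List.map_congr_left fun b _ => Int.mul_ediv_cancel_left b (by norm_num)).trans (List.map_id _)
  · obtain ⟨r, hr, rfl⟩ := List.mem_map.1 ha
    refine (abs_rowDot r _ (fun x hx => abs_le.2 (hs.2 r hr x hx)) (dec_bound _ _)).trans ?_
    rw [hs.1.2 r hr]; norm_num

/-- The code of an entry. -/
def eCode (e : ℕ) : ℕ := e % 2 ^ 96
/-- The generator of an entry. -/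
def eGen (e : ℕ) : ℕ := e / 2 ^ 96 % 4
/-- The depth of an entry. -/
def eDepth (e : ℕ) : ℕ := e / 2 ^ 98 % 256
/-- The position of the parent of an entry. -/
def ePar (e : ℕ) : ℕ := e / 2 ^ 106

/-- One entry of a tree. -/
def entryOK (Cs : List (List ℕ × ℕ)) (root : ℕ) (T : List (List ℕ)) (e : ℕ) : Bool :=
  if Nat.beq (eDepth e) 0 then Nat.beq (eCode e) root
  else match (T.getD (ePar e / 64) [])[ePar e % 64]? with
    | none => false
    | some p => Nat.blt (eDepth p) (eDepth e) &&
        (match Cs[eGen e]? with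
          | none => false
          | some C => imgOK C (eCode p) (eCode e))

/-- Strictly increasing. -/
def incr : List ℕ → Bool
  | [] => true
  | [_] => true
  | a :: b :: l => Nat.blt a b && incr (b :: l)

/-- A tree of codes in increasing order. -/
def treeOK (Cs : List (List ℕ × ℕ)) (root : ℕ) (T : List (List ℕ)) : Bool :=
  T.all (fun B => B.all (entryOK Cs root T)) && incr (T.flatten.map eCode)

theorem incr_pairwise : ∀ l : List ℕ, incr l = true → l.Pairwise (· < ·)
  | [], _ => List.Pairwise.nil
  | [_], _ => List.pairwise_singleton _ _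
  | a :: b :: l, h => by
    simp only [incr, Bool.and_eq_true, Nat.blt_eq] at h
    have hp := incr_pairwise _ h.2
    refine List.pairwise_cons.2 ⟨fun x hx => ?_, hp⟩
    rcases List.mem_cons.1 hx with rfl | hx
    · exact h.1
    · exact h.1.trans ((List.pairwise_cons.1 hp).1 x hx)

variable {Cs : List (List ℕ × ℕ)} {root : ℕ} {T : List (List ℕ)}

/-- Every listed vector is in the orbit of the root. -/
theorem mem_orbit (h : treeOK Cs root T = true) {G : Subgroup Co0} {Ms : List (List (List ℤ))}
    (hCs : List.Forall₂ (fun M P => colsOK M P = true) Ms Cs) (hs : Ms.all smallOK = true)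
    (hgen : ∀ M ∈ Ms, ∃ g ∈ G, ∀ v : leechLattice, ((g • v : leechLattice) : GolayPt → ℤ) = mapMat (toMat M) v)
    {x₀ : leechLattice} (h0 : toVec (dec 24 root) = (x₀ : GolayPt → ℤ)) {e : ℕ} (he : e ∈ T.flatten) :
    ∃ x ∈ MulAction.orbit G x₀, toVec (dec 24 (eCode e)) = (x : GolayPt → ℤ) := by
  simp only [treeOK, Bool.and_eq_true, List.all_eq_true] at h
  induction hd : eDepth e using Nat.strong_induction_on generalizing e with
  | _ n ih =>
    obtain ⟨B, hB, heB⟩ := List.mem_flatten.1 he
    have hk := h.1 B hB e heB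
    unfold entryOK at hk
    split at hk
    · exact ⟨x₀, MulAction.mem_orbit_self _, by rw [Nat.eq_of_beq_eq_true hk, h0]⟩
    · split at hk
      · simp at hk
      rename_i p hp
      simp only [Bool.and_eq_true, Nat.blt_eq] at hk
      obtain ⟨hlt, hk⟩ := hk
      have hpT : p ∈ T.flatten := by
        have hm := List.mem_of_getElem? hp
        have hlen : ePar e / 64 < T.length := by
          by_contra hcon
          rw [List.getD_eq_default _ _ (Nat.le_of_not_lt hcon)] at hm
          simp at hm
        rw [List.getD_eq_getElem _ _ hlen] at hm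
        exact List.mem_flatten.2 ⟨_, List.getElem_mem hlen, hm⟩
      obtain ⟨x, hx, hxv⟩ := ih _ (hd ▸ hlt) hpT rfl
      split at hk
      · simp at hk
      rename_i C hC
      obtain ⟨hlt', hC'⟩ := List.getElem?_eq_some_iff.1 hC
      obtain ⟨M, hM, hMC⟩ : ∃ M, Ms[eGen e]? = some M ∧ colsOK M C = true := by
        have hl := hCs.length_eq
        refine ⟨Ms[eGen e]'(by omega), List.getElem?_eq_getElem _, ?_⟩
        rw [← hC']
        exact hCs.get (by omega) hlt'
      have hMm := List.mem_of_getElem? hM
      have hsm := List.all_eq_true.1 hs M hMm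
      obtain ⟨g, hg, hgv⟩ := hgen M hMm
      refine ⟨g • x, ?_, ?_⟩
      · obtain ⟨a, rfl⟩ := hx
        exact ⟨⟨g, hg⟩ * a, mul_smul _ _ _⟩
      · have hsh : shapeOK M = true := by
          simp only [smallOK, Bool.and_eq_true] at hsm; exact hsm.1
        rw [hgv, ← hxv, mapMat_toVec hsh (length_dec _ _), img_eq hsm hMC hk]

/-- A lower bound for an orbit from a table of lattice vectors. -/
theorem orbit_card (h : treeOK Cs root T = true) {G : Subgroup Co0} {Ms : List (List (List ℤ))}
    (hCs : List.Forall₂ (fun M P => colsOK M P = true) Ms Cs) (hs : Ms.all smallOK = true)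
    (hgen : ∀ M ∈ Ms, ∃ g ∈ G, ∀ v : leechLattice, ((g • v : leechLattice) : GolayPt → ℤ) = mapMat (toMat M) v)
    {x₀ : leechLattice} (h0 : toVec (dec 24 root) = (x₀ : GolayPt → ℤ)) {S : Set leechLattice} (hfin : S.Finite)
    (hsub : MulAction.orbit G x₀ ⊆ S) : T.flatten.length ≤ (MulAction.orbit G x₀).ncard := by
  have hinc : (T.flatten.map eCode).Pairwise (· < ·) := by
    simp only [treeOK, Bool.and_eq_true] at h
    exact incr_pairwise _ h.2
  have hnd : (T.flatten.map eCode).Nodup := hinc.imp fun h => ne_of_lt h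
  choose f hf hfv using fun k : Fin T.flatten.length => mem_orbit h hCs hs hgen h0 (List.getElem_mem k.2)
  have hinj : Function.Injective f := fun i j hij => by
    have he : dec 24 (eCode T.flatten[i]) = dec 24 (eCode T.flatten[j]) :=
      toVec_inj (length_dec _ _) (length_dec _ _) ((hfv i).trans ((congrArg Subtype.val hij).trans (hfv j).symm))
    have hlt : ∀ k, eCode k < 16 ^ 24 := fun k => (Nat.mod_lt _ (by norm_num)).trans_le (by norm_num)
    have hk := dec_injective _ _ _ (hlt _) (hlt _) he
    refine Fin.ext ((hnd.getElem_inj_iff (hi := by rw [List.length_map]; exact i.2) (hj := by rw [List.length_map]; exact j.2)).1 ?_)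
    rw [List.getElem_map, List.getElem_map]; exact hk
  calc T.flatten.length = (Set.range f).ncard := by
        rw [Set.ncard_range_of_injective hinj, Nat.card_fin]
    _ ≤ _ := Set.ncard_le_ncard (Set.range_subset_iff.2 hf) (hfin.subset hsub)

end Cfsg.Agent.LeechOrbit
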