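import Cfsg.Agent.Lib.Leech.Co0

/-! Sums of squares and dot products as inner products. -/

set_option autoImplicit false

namespace Cfsg.Agent.LeechOrbit

open Cfsg Cfsg.Agent.Golay Cfsg.Agent.Leech

theorem norm_iff (x : leechLattice) (n : ℤ) {m : ℤ} (h : m = 8 * n := by norm_num) :
    sqNorm (x : GolayPt → ℤ) = m ↔ ip x x = n := by
  have := eight_ip_self x; omega

theorem dot_iff (x y : leechLattice) (n : ℤ) {m : ℤ} (h : m = 8 * n := by norm_num) :
    dotInt (x : GolayPt → ℤ) y = m ↔ ip x y = n := by
  have := eight_ip x y; omega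

end Cfsg.Agent.LeechOrbit
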