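import Mathlib.Data.Int.Notation
import Mathlib.Data.Nat.Notation

/-! The stabiliser of one of 352 vectors on 126 pairs of vectors. -/

set_option autoImplicit false
set_option maxRecDepth 20000

namespace Cfsg.Agent.LeechOrbit

/-- Generator 0. -/
def u35Mat0 : List (List ℤ) :=
  [[6, 2, 0, 0, 0, 2, 2, 0, 0, 0, 0, 0, 0, 0, 0, 0, 0, 0, 2, 0, 2, 0, 2, (-2)],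
   [0, 0, 2, 2, (-2), 0, 0, (-2), 2, 2, 2, (-2), (-2), 2, 2, 2, (-2), 2, 0, 2, 0, (-2), 0, 0],
   [2, (-2), 0, 0, 0, (-2), 6, 0, 0, 0, 0, 0, 0, 0, 0, 0, 0, 0, (-2), 0, (-2), 0, (-2), 2],
   [0, 0, 2, (-2), 2, 0, 0, 2, 2, (-2), (-2), (-2), (-2), 2, (-2), 2, 2, 2, 0, 2, 0, 2, 0, 0],
   [0, 0, (-2), 2, (-2), 0, 0, 2, 2, 2, 2, 2, (-2), 2, (-2), (-2), 2, 2, 0, (-2), 0, 2, 0, 0],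
   [2, (-2), 0, 0, 0, (-2), (-2), 0, 0, 0, 0, 0, 0, 0, 0, 0, 0, 0, (-2), 0, (-2), 0, 6, 2],
   [0, 0, (-2), (-2), 2, 0, 0, (-2), 2, 2, 2, (-2), 2, (-2), 2, (-2), 2, 2, 0, 2, 0, 2, 0, 0],
   [2, (-2), 0, 0, 0, (-2), (-2), 0, 0, 0, 0, 0, 0, 0, 0, 0, 0, 0, (-2), 0, 6, 0, (-2), 2],
   [0, 0, 2, 2, 2, 0, 0, 2, (-2), 2, (-2), (-2), 2, 2, 2, (-2), 2, 2, 0, (-2), 0, (-2), 0, 0],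
   [2, (-2), 0, 0, 0, 6, (-2), 0, 0, 0, 0, 0, 0, 0, 0, 0, 0, 0, (-2), 0, (-2), 0, (-2), 2],
   [0, 0, 2, 2, (-2), 0, 0, 2, (-2), 2, 2, (-2), 2, (-2), (-2), 2, 2, (-2), 0, 2, 0, 2, 0, 0],
   [0, 0, 2, (-2), 2, 0, 0, (-2), (-2), 2, 2, 2, (-2), 2, 2, 2, 2, (-2), 0, (-2), 0, 2, 0, 0],
   [2, (-2), 0, 0, 0, (-2), (-2), 0, 0, 0, 0, 0, 0, 0, 0, 0, 0, 0, 6, 0, (-2), 0, (-2), 2],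
   [0, 0, (-2), 2, 2, 0, 0, 2, 2, (-2), 2, (-2), 2, 2, 2, 2, (-2), (-2), 0, (-2), 0, 2, 0, 0],
   [0, 0, 2, 2, (-2), 0, 0, (-2), 2, (-2), (-2), 2, 2, (-2), 2, 2, 2, 2, 0, (-2), 0, 2, 0, 0],
   [0, 0, (-2), 2, 2, 0, 0, (-2), (-2), 2, (-2), 2, 2, 2, (-2), 2, (-2), 2, 0, 2, 0, 2, 0, 0],
   [0, 0, 2, 2, 2, 0, 0, (-2), 2, (-2), 2, 2, 2, 2, (-2), (-2), 2, (-2), 0, 2, 0, (-2), 0, 0],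
   [0, 0, 2, (-2), 2, 0, 0, 2, 2, 2, 2, 2, 2, (-2), (-2), 2, (-2), 2, 0, (-2), 0, (-2), 0, 0],
   [0, 0, 2, (-2), (-2), 0, 0, 2, 2, 2, (-2), 2, 2, 2, 2, (-2), (-2), (-2), 0, 2, 0, 2, 0, 0],
   [0, 0, 2, 2, 2, 0, 0, 2, (-2), (-2), 2, 2, (-2), (-2), 2, (-2), (-2), 2, 0, 2, 0, 2, 0, 0],
   [0, 0, (-2), 2, 2, 0, 0, 2, 2, 2, (-2), 2, (-2), (-2), 2, 2, 2, (-2), 0, 2, 0, (-2), 0, 0],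
   [0, 0, (-2), (-2), (-2), 0, 0, 2, (-2), (-2), 2, 2, 2, 2, 2, 2, 2, 2, 0, 2, 0, (-2), 0, 0],
   [2, 6, 0, 0, 0, (-2), (-2), 0, 0, 0, 0, 0, 0, 0, 0, 0, 0, 0, (-2), 0, (-2), 0, (-2), 2],
   [(-2), 2, 0, 0, 0, 2, 2, 0, 0, 0, 0, 0, 0, 0, 0, 0, 0, 0, 2, 0, 2, 0, 2, 6]]

/-- Generator 1. -/
def u35Mat1 : List (List ℤ) :=
  [[5, 1, 1, 1, 1, 1, 1, 1, 1, 1, 1, 1, 1, 1, (-3), 1, 1, 1, 1, 1, 1, 1, 1, (-3)],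
   [1, 1, 1, 1, 1, (-3), (-3), 1, (-3), 1, 1, 1, (-3), 1, 1, 1, 1, 1, 1, 1, 1, (-3), 1, 1],
   [1, 1, 1, (-3), 1, 1, 1, 1, (-3), 1, 1, 1, 1, 1, 1, (-3), 1, 1, (-3), 1, (-3), 1, 1, 1],
   [1, 1, (-3), 1, 1, 1, 1, 1, 1, 1, 1, (-3), 1, 1, 1, 1, 1, 1, 1, 1, (-3), (-3), (-3), 1],
   [1, 1, 1, 1, 1, 1, 1, (-3), 1, (-3), 1, 1, 1, 1, 1, (-3), 1, (-3), 1, 1, 1, (-3), 1, 1],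
   [1, (-3), 1, 1, 1, 1, (-3), 1, 1, 1, 1, (-3), 1, 1, 1, (-3), (-3), 1, 1, 1, 1, 1, 1, 1],
   [1, 1, 1, 1, 1, (-3), 1, 1, 1, 1, (-3), 1, 1, (-3), 1, (-3), 1, 1, 1, 1, 1, 1, (-3), 1],
   [1, (-3), 1, 1, 1, 1, 1, (-3), 1, 1, 1, 1, (-3), (-3), 1, 1, 1, 1, 1, 1, (-3), 1, 1, 1],
   [1, 1, 1, 1, (-3), 1, 1, 1, (-3), 1, 1, (-3), 1, (-3), 1, 1, 1, (-3), 1, 1, 1, 1, 1, 1],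
   [1, 1, (-3), 1, 1, 1, (-3), 1, 1, (-3), 1, 1, 1, (-3), 1, 1, 1, 1, (-3), 1, 1, 1, 1, 1],
   [1, 1, (-3), 1, (-3), 1, 1, 1, 1, 1, 1, 1, (-3), 1, 1, (-3), 1, 1, 1, (-3), 1, 1, 1, 1],
   [(-3), 1, 1, 1, 1, 1, 1, 1, 1, 1, 1, 1, 1, 1, 5, 1, 1, 1, 1, 1, 1, 1, 1, (-3)],
   [1, 1, (-3), 1, 1, 1, 1, (-3), (-3), 1, (-3), 1, 1, 1, 1, 1, (-3), 1, 1, 1, 1, 1, 1, 1],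
   [1, 1, 1, 1, 1, 1, (-3), 1, 1, 1, (-3), 1, 1, 1, 1, 1, 1, (-3), 1, (-3), (-3), 1, 1, 1],
   [1, (-3), (-3), (-3), 1, (-3), 1, 1, 1, 1, 1, 1, 1, 1, 1, 1, 1, (-3), 1, 1, 1, 1, 1, 1],
   [1, 1, 1, 1, (-3), (-3), 1, 1, 1, (-3), 1, 1, 1, 1, 1, 1, (-3), 1, 1, 1, (-3), 1, 1, 1],
   [1, 1, 1, 1, 1, (-3), 1, (-3), 1, 1, 1, (-3), 1, 1, 1, 1, 1, 1, (-3), (-3), 1, 1, 1, 1],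
   [1, 1, 1, 1, 1, 1, 1, 1, 1, 1, 1, 1, (-3), 1, 1, 1, (-3), (-3), (-3), 1, 1, 1, (-3), 1],
   [1, (-3), 1, 1, 1, 1, 1, 1, (-3), (-3), 1, 1, 1, 1, 1, 1, 1, 1, 1, (-3), 1, 1, (-3), 1],
   [1, (-3), 1, 1, (-3), 1, 1, 1, 1, 1, (-3), 1, 1, 1, 1, 1, 1, 1, (-3), 1, 1, (-3), 1, 1],
   [1, 1, 1, (-3), 1, 1, 1, 1, 1, 1, 1, 1, 1, (-3), 1, 1, (-3), 1, 1, (-3), 1, (-3), 1, 1],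
   [1, 1, 1, (-3), (-3), 1, (-3), (-3), 1, 1, 1, 1, 1, 1, 1, 1, 1, 1, 1, 1, 1, 1, (-3), 1],
   [1, 1, 1, (-3), 1, 1, 1, 1, 1, (-3), (-3), (-3), (-3), 1, 1, 1, 1, 1, 1, 1, 1, 1, 1, 1],
   [(-3), 1, 1, 1, 1, 1, 1, 1, 1, 1, 1, 1, 1, 1, (-3), 1, 1, 1, 1, 1, 1, 1, 1, 5]]

/-- The pairs. -/
def u35Pts : List (List (List ℤ)) :=
  [[[0, 2, 0, 2, 2, 0, 0, 0, 2, 0, 0, 0, 2, 0, 2, 0, 2, 0, 0, 0, 0, 0, 0, 2], [1, (-1), 1, (-1), (-1), 1, 1, 1, (-1), 1, 1, 1, (-1), 1, (-1), 1, (-1), 1, 1, 1, 1, 1, 1, 3]],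
   [[0, 0, 0, 0, 0, 0, 2, 0, 2, 0, 2, 2, 2, 0, 0, 0, 2, 2, 0, 0, 0, 0, 0, 2], [1, 1, 1, 1, 1, 1, (-1), 1, (-1), 1, (-1), (-1), (-1), 1, 1, 1, (-1), (-1), 1, 1, 1, 1, 1, 3]],
   [[0, 0, 0, 0, 0, 2, 2, 0, 0, 2, 0, 2, 0, 0, 2, 0, 0, 2, 0, 0, 0, 0, 2, 2], [1, 1, 1, 1, 1, (-1), (-1), 1, 1, (-1), 1, (-1), 1, 1, (-1), 1, 1, (-1), 1, 1, 1, 1, (-1), 3]],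
   [[0, 0, 0, 2, 0, 2, 0, 0, 0, 0, 0, 0, 2, 0, 2, 0, 0, 0, 0, 2, 2, 0, 2, 2], [1, 1, 1, (-1), 1, (-1), 1, 1, 1, 1, 1, 1, (-1), 1, (-1), 1, 1, 1, 1, (-1), (-1), 1, (-1), 3]],
   [[0, 2, 2, 0, 2, 0, 0, 2, 0, 2, 0, 2, 0, 0, 2, 0, 0, 0, 0, 0, 0, 0, 0, 2], [1, (-1), (-1), 1, (-1), 1, 1, (-1), 1, (-1), 1, (-1), 1, 1, (-1), 1, 1, 1, 1, 1, 1, 1, 1, 3]],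
   [[0, 0, 2, 0, 0, 0, 0, 2, 0, 0, 2, 2, 2, 0, 0, 0, 0, 0, 0, 2, 2, 0, 0, 2], [1, 1, (-1), 1, 1, 1, 1, (-1), 1, 1, (-1), (-1), (-1), 1, 1, 1, 1, 1, 1, (-1), (-1), 1, 1, 3]],
   [[0, 0, 0, 0, 0, 0, 0, 0, 2, 0, 0, 2, 0, 0, 0, 0, 0, 2, 2, 2, 2, 0, 2, 2], [1, 1, 1, 1, 1, 1, 1, 1, (-1), 1, 1, (-1), 1, 1, 1, 1, 1, (-1), (-1), (-1), (-1), 1, (-1), 3]],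
   [[0, 0, 0, 0, 0, 2, 2, 0, 0, 2, 2, 0, 2, 2, 0, 0, 0, 0, 0, 0, 2, 0, 0, 2], [1, 1, 1, 1, 1, (-1), (-1), 1, 1, (-1), (-1), 1, (-1), (-1), 1, 1, 1, 1, 1, 1, (-1), 1, 1, 3]],
   [[0, 2, 0, 0, 2, 0, 0, 0, 0, 2, 0, 0, 0, 0, 0, 2, 2, 0, 0, 2, 0, 2, 0, 2], [1, (-1), 1, 1, (-1), 1, 1, 1, 1, (-1), 1, 1, 1, 1, 1, (-1), (-1), 1, 1, (-1), 1, (-1), 1, 3]],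
   [[0, 2, 0, 0, 2, 0, 0, 0, 2, 2, 0, 0, 0, 2, 0, 0, 0, 0, 2, 0, 2, 0, 0, 2], [1, (-1), 1, 1, (-1), 1, 1, 1, (-1), (-1), 1, 1, 1, (-1), 1, 1, 1, 1, (-1), 1, (-1), 1, 1, 3]],
   [[0, 0, 0, 0, 0, 0, 0, 0, 0, 2, 2, 0, 2, 0, 0, 2, 0, 2, 0, 2, 0, 0, 2, 2], [1, 1, 1, 1, 1, 1, 1, 1, 1, (-1), (-1), 1, (-1), 1, 1, (-1), 1, (-1), 1, (-1), 1, 1, (-1), 3]],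
   [[0, 0, 0, 0, 0, 2, 2, 0, 0, 0, 0, 2, 0, 0, 0, 0, 2, 0, 0, 2, 2, 2, 0, 2], [1, 1, 1, 1, 1, (-1), (-1), 1, 1, 1, 1, (-1), 1, 1, 1, 1, (-1), 1, 1, (-1), (-1), (-1), 1, 3]],
   [[0, 2, 0, 0, 0, 0, 0, 0, 0, 2, 0, 2, 2, 0, 0, 0, 2, 0, 0, 0, 2, 0, 2, 2], [1, (-1), 1, 1, 1, 1, 1, 1, 1, (-1), 1, (-1), (-1), 1, 1, 1, (-1), 1, 1, 1, (-1), 1, (-1), 3]],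
   [[0, 2, 0, 0, 2, 2, 0, 0, 0, 0, 0, 2, 0, 0, 0, 0, 2, 2, 2, 0, 0, 0, 0, 2], [1, (-1), 1, 1, (-1), (-1), 1, 1, 1, 1, 1, (-1), 1, 1, 1, 1, (-1), (-1), (-1), 1, 1, 1, 1, 3]],
   [[0, 2, 2, 2, 0, 0, 0, 0, 0, 2, 0, 0, 2, 2, 0, 0, 0, 0, 0, 2, 0, 0, 0, 2], [1, (-1), (-1), (-1), 1, 1, 1, 1, 1, (-1), 1, 1, (-1), (-1), 1, 1, 1, 1, 1, (-1), 1, 1, 1, 3]],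
   [[0, 0, 2, 0, 2, 2, 0, 0, 0, 2, 0, 0, 0, 2, 0, 2, 0, 2, 0, 0, 0, 0, 0, 2], [1, 1, (-1), 1, (-1), (-1), 1, 1, 1, (-1), 1, 1, 1, (-1), 1, (-1), 1, (-1), 1, 1, 1, 1, 1, 3]],
   [[0, 2, 0, 2, 0, 2, 0, 0, 2, 0, 0, 0, 0, 0, 0, 0, 0, 0, 2, 2, 0, 2, 0, 2], [1, (-1), 1, (-1), 1, (-1), 1, 1, (-1), 1, 1, 1, 1, 1, 1, 1, 1, 1, (-1), (-1), 1, (-1), 1, 3]],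
   [[0, 0, 0, 0, 0, 2, 0, 0, 2, 2, 0, 0, 0, 0, 0, 2, 0, 0, 0, 0, 2, 2, 2, 2], [1, 1, 1, 1, 1, (-1), 1, 1, (-1), (-1), 1, 1, 1, 1, 1, (-1), 1, 1, 1, 1, (-1), (-1), (-1), 3]],
   [[0, 2, 0, 2, 0, 0, 2, 0, 0, 2, 0, 0, 0, 0, 2, 0, 0, 0, 0, 0, 2, 2, 0, 2], [1, (-1), 1, (-1), 1, 1, (-1), 1, 1, (-1), 1, 1, 1, 1, (-1), 1, 1, 1, 1, 1, (-1), (-1), 1, 3]],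
   [[0, 2, 0, 0, 2, 0, 0, 0, 0, 0, 0, 0, 0, 0, 2, 2, 0, 2, 0, 0, 2, 0, 2, 2], [1, (-1), 1, 1, (-1), 1, 1, 1, 1, 1, 1, 1, 1, 1, (-1), (-1), 1, (-1), 1, 1, (-1), 1, (-1), 3]],
   [[0, 0, 0, 0, 0, 2, 0, 0, 2, 0, 0, 0, 0, 0, 2, 2, 2, 2, 0, 2, 0, 0, 0, 2], [1, 1, 1, 1, 1, (-1), 1, 1, (-1), 1, 1, 1, 1, 1, (-1), (-1), (-1), (-1), 1, (-1), 1, 1, 1, 3]],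
   [[0, 0, 2, 0, 0, 2, 0, 0, 0, 2, 2, 0, 0, 0, 2, 0, 0, 0, 0, 2, 0, 2, 0, 2], [1, 1, (-1), 1, 1, (-1), 1, 1, 1, (-1), (-1), 1, 1, 1, (-1), 1, 1, 1, 1, (-1), 1, (-1), 1, 3]],
   [[0, 0, 0, 2, 0, 0, 2, 2, 2, 0, 0, 0, 0, 0, 0, 2, 2, 0, 0, 0, 0, 2, 0, 2], [1, 1, 1, (-1), 1, 1, (-1), (-1), (-1), 1, 1, 1, 1, 1, 1, (-1), (-1), 1, 1, 1, 1, (-1), 1, 3]],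
   [[0, 0, 2, 0, 2, 0, 0, 2, 0, 0, 2, 0, 0, 0, 0, 2, 0, 0, 0, 0, 0, 2, 2, 2], [1, 1, (-1), 1, (-1), 1, 1, (-1), 1, 1, (-1), 1, 1, 1, 1, (-1), 1, 1, 1, 1, 1, (-1), (-1), 3]],
   [[0, 2, 0, 0, 2, 2, 2, 0, 0, 0, 0, 0, 0, 2, 2, 0, 0, 0, 0, 2, 0, 0, 0, 2], [1, (-1), 1, 1, (-1), (-1), (-1), 1, 1, 1, 1, 1, 1, (-1), (-1), 1, 1, 1, 1, (-1), 1, 1, 1, 3]],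
   [[0, 0, 0, 2, 2, 0, 0, 0, 0, 2, 0, 0, 0, 0, 2, 0, 0, 2, 2, 2, 0, 0, 0, 2], [1, 1, 1, (-1), (-1), 1, 1, 1, 1, (-1), 1, 1, 1, 1, (-1), 1, 1, (-1), (-1), (-1), 1, 1, 1, 3]],
   [[0, 2, 2, 0, 0, 2, 0, 2, 0, 0, 2, 0, 0, 2, 0, 0, 0, 0, 2, 0, 0, 0, 0, 2], [1, (-1), (-1), 1, 1, (-1), 1, (-1), 1, 1, (-1), 1, 1, (-1), 1, 1, 1, 1, (-1), 1, 1, 1, 1, 3]],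
   [[0, 0, 2, 2, 0, 0, 0, 0, 2, 0, 0, 0, 0, 2, 0, 0, 2, 2, 2, 0, 0, 0, 0, 2], [1, 1, (-1), (-1), 1, 1, 1, 1, (-1), 1, 1, 1, 1, (-1), 1, 1, (-1), (-1), (-1), 1, 1, 1, 1, 3]],
   [[0, 0, 0, 0, 0, 0, 0, 2, 0, 2, 2, 0, 0, 0, 2, 0, 0, 0, 2, 0, 2, 0, 2, 2], [1, 1, 1, 1, 1, 1, 1, (-1), 1, (-1), (-1), 1, 1, 1, (-1), 1, 1, 1, (-1), 1, (-1), 1, (-1), 3]],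
   [[0, 0, 0, 0, 0, 0, 2, 0, 2, 0, 0, 0, 0, 2, 2, 0, 2, 0, 0, 0, 2, 0, 2, 2], [1, 1, 1, 1, 1, 1, (-1), 1, (-1), 1, 1, 1, 1, (-1), (-1), 1, (-1), 1, 1, 1, (-1), 1, (-1), 3]],
   [[0, 0, 0, 0, 0, 2, 0, 0, 0, 2, 0, 0, 0, 2, 0, 0, 2, 0, 2, 2, 0, 0, 2, 2], [1, 1, 1, 1, 1, (-1), 1, 1, 1, (-1), 1, 1, 1, (-1), 1, 1, (-1), 1, (-1), (-1), 1, 1, (-1), 3]],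
   [[0, 0, 0, 2, 2, 0, 0, 0, 0, 0, 0, 0, 0, 0, 0, 0, 2, 0, 2, 0, 2, 2, 2, 2], [1, 1, 1, (-1), (-1), 1, 1, 1, 1, 1, 1, 1, 1, 1, 1, 1, (-1), 1, (-1), 1, (-1), (-1), (-1), 3]],
   [[0, 2, 0, 0, 0, 0, 2, 2, 0, 2, 0, 0, 0, 2, 0, 2, 0, 0, 0, 0, 0, 0, 2, 2], [1, (-1), 1, 1, 1, 1, (-1), (-1), 1, (-1), 1, 1, 1, (-1), 1, (-1), 1, 1, 1, 1, 1, 1, (-1), 3]],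
   [[0, 0, 0, 2, 2, 0, 0, 2, 0, 2, 0, 0, 2, 0, 0, 2, 0, 0, 0, 0, 2, 0, 0, 2], [1, 1, 1, (-1), (-1), 1, 1, (-1), 1, (-1), 1, 1, (-1), 1, 1, (-1), 1, 1, 1, 1, (-1), 1, 1, 3]],
   [[0, 2, 0, 0, 2, 0, 2, 0, 2, 0, 0, 2, 0, 0, 0, 0, 0, 0, 0, 0, 0, 2, 2, 2], [1, (-1), 1, 1, (-1), 1, (-1), 1, (-1), 1, 1, (-1), 1, 1, 1, 1, 1, 1, 1, 1, 1, (-1), (-1), 3]],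
   [[0, 0, 0, 0, 2, 2, 0, 0, 2, 2, 0, 2, 2, 0, 0, 0, 0, 0, 0, 2, 0, 0, 0, 2], [1, 1, 1, 1, (-1), (-1), 1, 1, (-1), (-1), 1, (-1), (-1), 1, 1, 1, 1, 1, 1, (-1), 1, 1, 1, 3]],
   [[0, 2, 0, 2, 0, 2, 2, 2, 0, 0, 0, 2, 2, 0, 0, 0, 0, 0, 0, 0, 0, 0, 0, 2], [1, (-1), 1, (-1), 1, (-1), (-1), (-1), 1, 1, 1, (-1), (-1), 1, 1, 1, 1, 1, 1, 1, 1, 1, 1, 3]],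
   [[0, 0, 0, 2, 0, 2, 0, 2, 0, 0, 0, 0, 0, 0, 0, 2, 0, 2, 2, 0, 0, 0, 2, 2], [1, 1, 1, (-1), 1, (-1), 1, (-1), 1, 1, 1, 1, 1, 1, 1, (-1), 1, (-1), (-1), 1, 1, 1, (-1), 3]],
   [[0, 0, 0, 0, 2, 0, 2, 0, 0, 0, 2, 0, 0, 2, 0, 0, 0, 2, 2, 0, 0, 0, 2, 2], [1, 1, 1, 1, (-1), 1, (-1), 1, 1, 1, (-1), 1, 1, (-1), 1, 1, 1, (-1), (-1), 1, 1, 1, (-1), 3]],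
   [[0, 2, 2, 0, 0, 0, 2, 0, 0, 0, 0, 2, 0, 2, 0, 0, 0, 2, 0, 0, 2, 0, 0, 2], [1, (-1), (-1), 1, 1, 1, (-1), 1, 1, 1, 1, (-1), 1, (-1), 1, 1, 1, (-1), 1, 1, (-1), 1, 1, 3]],
   [[0, 0, 2, 2, 0, 0, 0, 0, 0, 0, 0, 0, 0, 0, 0, 2, 0, 2, 0, 2, 2, 2, 0, 2], [1, 1, (-1), (-1), 1, 1, 1, 1, 1, 1, 1, 1, 1, 1, 1, (-1), 1, (-1), 1, (-1), (-1), (-1), 1, 3]],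
   [[0, 0, 0, 2, 2, 0, 2, 0, 0, 0, 2, 0, 2, 0, 0, 0, 0, 0, 0, 2, 0, 2, 0, 2], [1, 1, 1, (-1), (-1), 1, (-1), 1, 1, 1, (-1), 1, (-1), 1, 1, 1, 1, 1, 1, (-1), 1, (-1), 1, 3]],
   [[0, 0, 2, 0, 0, 2, 2, 0, 0, 0, 0, 0, 2, 0, 0, 0, 0, 2, 2, 2, 0, 0, 0, 2], [1, 1, (-1), 1, 1, (-1), (-1), 1, 1, 1, 1, 1, (-1), 1, 1, 1, 1, (-1), (-1), (-1), 1, 1, 1, 3]],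
   [[0, 0, 0, 0, 2, 2, 0, 0, 0, 0, 2, 0, 0, 0, 0, 2, 0, 0, 2, 2, 2, 0, 0, 2], [1, 1, 1, 1, (-1), (-1), 1, 1, 1, 1, (-1), 1, 1, 1, 1, (-1), 1, 1, (-1), (-1), (-1), 1, 1, 3]],
   [[0, 0, 0, 0, 2, 0, 0, 2, 2, 0, 0, 0, 0, 0, 2, 0, 0, 0, 0, 2, 2, 2, 0, 2], [1, 1, 1, 1, (-1), 1, 1, (-1), (-1), 1, 1, 1, 1, 1, (-1), 1, 1, 1, 1, (-1), (-1), (-1), 1, 3]],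
   [[0, 0, 2, 2, 0, 0, 2, 0, 2, 0, 0, 2, 0, 0, 2, 0, 0, 0, 0, 2, 0, 0, 0, 2], [1, 1, (-1), (-1), 1, 1, (-1), 1, (-1), 1, 1, (-1), 1, 1, (-1), 1, 1, 1, 1, (-1), 1, 1, 1, 3]],
   [[0, 2, 0, 0, 0, 0, 0, 2, 2, 2, 2, 0, 2, 0, 0, 0, 0, 0, 0, 0, 0, 2, 0, 2], [1, (-1), 1, 1, 1, 1, 1, (-1), (-1), (-1), (-1), 1, (-1), 1, 1, 1, 1, 1, 1, 1, 1, (-1), 1, 3]],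
   [[0, 0, 2, 2, 0, 2, 0, 0, 2, 0, 2, 0, 2, 0, 0, 2, 0, 0, 0, 0, 0, 0, 0, 2], [1, 1, (-1), (-1), 1, (-1), 1, 1, (-1), 1, (-1), 1, (-1), 1, 1, (-1), 1, 1, 1, 1, 1, 1, 1, 3]],
   [[0, 2, 0, 0, 0, 0, 2, 0, 0, 2, 2, 2, 0, 0, 0, 0, 0, 0, 2, 2, 0, 0, 0, 2], [1, (-1), 1, 1, 1, 1, (-1), 1, 1, (-1), (-1), (-1), 1, 1, 1, 1, 1, 1, (-1), (-1), 1, 1, 1, 3]],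
   [[0, 2, 0, 0, 0, 0, 2, 0, 2, 0, 0, 0, 2, 0, 0, 2, 0, 0, 0, 2, 2, 0, 0, 2], [1, (-1), 1, 1, 1, 1, (-1), 1, (-1), 1, 1, 1, (-1), 1, 1, (-1), 1, 1, 1, (-1), (-1), 1, 1, 3]],
   [[0, 2, 0, 0, 0, 0, 0, 2, 2, 0, 0, 2, 0, 2, 0, 0, 2, 0, 0, 2, 0, 0, 0, 2], [1, (-1), 1, 1, 1, 1, 1, (-1), (-1), 1, 1, (-1), 1, (-1), 1, 1, (-1), 1, 1, (-1), 1, 1, 1, 3]],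
   [[0, 0, 2, 0, 0, 0, 2, 2, 0, 0, 0, 2, 0, 0, 0, 0, 2, 0, 2, 0, 0, 0, 2, 2], [1, 1, (-1), 1, 1, 1, (-1), (-1), 1, 1, 1, (-1), 1, 1, 1, 1, (-1), 1, (-1), 1, 1, 1, (-1), 3]],
   [[0, 2, 0, 0, 0, 0, 0, 0, 0, 2, 2, 0, 0, 2, 2, 0, 2, 2, 0, 0, 0, 0, 0, 2], [1, (-1), 1, 1, 1, 1, 1, 1, 1, (-1), (-1), 1, 1, (-1), (-1), 1, (-1), (-1), 1, 1, 1, 1, 1, 3]],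
   [[0, 2, 2, 0, 0, 0, 2, 0, 0, 0, 2, 0, 2, 0, 2, 0, 0, 0, 0, 0, 0, 0, 2, 2], [1, (-1), (-1), 1, 1, 1, (-1), 1, 1, 1, (-1), 1, (-1), 1, (-1), 1, 1, 1, 1, 1, 1, 1, (-1), 3]],
   [[0, 0, 0, 0, 0, 0, 2, 0, 0, 2, 0, 0, 0, 0, 0, 2, 2, 2, 2, 0, 2, 0, 0, 2], [1, 1, 1, 1, 1, 1, (-1), 1, 1, (-1), 1, 1, 1, 1, 1, (-1), (-1), (-1), (-1), 1, (-1), 1, 1, 3]],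
   [[0, 0, 0, 2, 0, 0, 2, 0, 0, 0, 2, 2, 0, 0, 0, 2, 0, 0, 0, 0, 2, 0, 2, 2], [1, 1, 1, (-1), 1, 1, (-1), 1, 1, 1, (-1), (-1), 1, 1, 1, (-1), 1, 1, 1, 1, (-1), 1, (-1), 3]],
   [[0, 2, 0, 2, 2, 0, 0, 2, 0, 0, 0, 0, 0, 2, 0, 0, 0, 2, 0, 0, 0, 2, 0, 2], [1, (-1), 1, (-1), (-1), 1, 1, (-1), 1, 1, 1, 1, 1, (-1), 1, 1, 1, (-1), 1, 1, 1, (-1), 1, 3]],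
   [[0, 0, 2, 0, 0, 0, 0, 2, 0, 0, 0, 0, 0, 2, 2, 0, 0, 2, 0, 2, 0, 0, 2, 2], [1, 1, (-1), 1, 1, 1, 1, (-1), 1, 1, 1, 1, 1, (-1), (-1), 1, 1, (-1), 1, (-1), 1, 1, (-1), 3]],
   [[0, 2, 0, 0, 0, 0, 0, 0, 2, 0, 2, 0, 0, 0, 0, 2, 2, 0, 2, 0, 0, 0, 2, 2], [1, (-1), 1, 1, 1, 1, 1, 1, (-1), 1, (-1), 1, 1, 1, 1, (-1), (-1), 1, (-1), 1, 1, 1, (-1), 3]],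
   [[0, 0, 0, 0, 0, 0, 0, 2, 0, 0, 2, 0, 0, 0, 0, 0, 2, 2, 2, 2, 0, 2, 0, 2], [1, 1, 1, 1, 1, 1, 1, (-1), 1, 1, (-1), 1, 1, 1, 1, 1, (-1), (-1), (-1), (-1), 1, (-1), 1, 3]],
   [[0, 0, 0, 2, 0, 2, 0, 0, 0, 2, 0, 0, 2, 0, 0, 0, 2, 2, 0, 0, 0, 2, 0, 2], [1, 1, 1, (-1), 1, (-1), 1, 1, 1, (-1), 1, 1, (-1), 1, 1, 1, (-1), (-1), 1, 1, 1, (-1), 1, 3]],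
   [[0, 2, 0, 0, 0, 2, 0, 0, 2, 0, 0, 0, 2, 2, 0, 0, 0, 2, 0, 0, 0, 0, 2, 2], [1, (-1), 1, 1, 1, (-1), 1, 1, (-1), 1, 1, 1, (-1), (-1), 1, 1, 1, (-1), 1, 1, 1, 1, (-1), 3]],
   [[0, 0, 2, 2, 0, 0, 0, 0, 0, 2, 0, 0, 0, 0, 2, 2, 2, 0, 0, 0, 0, 0, 2, 2], [1, 1, (-1), (-1), 1, 1, 1, 1, 1, (-1), 1, 1, 1, 1, (-1), (-1), (-1), 1, 1, 1, 1, 1, (-1), 3]],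
   [[0, 2, 0, 0, 2, 0, 0, 2, 0, 0, 0, 0, 2, 0, 0, 0, 0, 0, 2, 2, 0, 0, 2, 2], [1, (-1), 1, 1, (-1), 1, 1, (-1), 1, 1, 1, 1, (-1), 1, 1, 1, 1, 1, (-1), (-1), 1, 1, (-1), 3]],
   [[0, 0, 0, 0, 2, 2, 2, 2, 0, 2, 0, 0, 0, 0, 0, 0, 0, 0, 2, 0, 0, 2, 0, 2], [1, 1, 1, 1, (-1), (-1), (-1), (-1), 1, (-1), 1, 1, 1, 1, 1, 1, 1, 1, (-1), 1, 1, (-1), 1, 3]],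
   [[0, 0, 2, 0, 2, 0, 2, 0, 0, 0, 0, 0, 0, 0, 2, 0, 2, 2, 0, 0, 0, 2, 0, 2], [1, 1, (-1), 1, (-1), 1, (-1), 1, 1, 1, 1, 1, 1, 1, (-1), 1, (-1), (-1), 1, 1, 1, (-1), 1, 3]],
   [[0, 2, 2, 0, 0, 0, 0, 2, 0, 0, 0, 0, 2, 0, 0, 2, 2, 2, 0, 0, 0, 0, 0, 2], [1, (-1), (-1), 1, 1, 1, 1, (-1), 1, 1, 1, 1, (-1), 1, 1, (-1), (-1), (-1), 1, 1, 1, 1, 1, 3]],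
   [[0, 0, 0, 0, 2, 0, 0, 0, 0, 0, 2, 2, 0, 0, 2, 0, 2, 0, 0, 2, 0, 0, 2, 2], [1, 1, 1, 1, (-1), 1, 1, 1, 1, 1, (-1), (-1), 1, 1, (-1), 1, (-1), 1, 1, (-1), 1, 1, (-1), 3]],
   [[0, 0, 0, 0, 0, 2, 0, 2, 0, 2, 2, 2, 0, 0, 0, 2, 2, 0, 0, 0, 0, 0, 0, 2], [1, 1, 1, 1, 1, (-1), 1, (-1), 1, (-1), (-1), (-1), 1, 1, 1, (-1), (-1), 1, 1, 1, 1, 1, 1, 3]],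
   [[0, 2, 0, 2, 0, 0, 0, 0, 2, 2, 0, 2, 0, 0, 0, 2, 0, 2, 0, 0, 0, 0, 0, 2], [1, (-1), 1, (-1), 1, 1, 1, 1, (-1), (-1), 1, (-1), 1, 1, 1, (-1), 1, (-1), 1, 1, 1, 1, 1, 3]],
   [[0, 2, 0, 2, 0, 2, 0, 0, 0, 0, 0, 0, 0, 2, 0, 2, 2, 0, 0, 0, 2, 0, 0, 2], [1, (-1), 1, (-1), 1, (-1), 1, 1, 1, 1, 1, 1, 1, (-1), 1, (-1), (-1), 1, 1, 1, (-1), 1, 1, 3]],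
   [[0, 0, 2, 0, 0, 0, 0, 0, 2, 2, 0, 0, 2, 0, 2, 0, 0, 2, 0, 0, 2, 0, 0, 2], [1, 1, (-1), 1, 1, 1, 1, 1, (-1), (-1), 1, 1, (-1), 1, (-1), 1, 1, (-1), 1, 1, (-1), 1, 1, 3]],
   [[0, 0, 0, 0, 0, 2, 0, 2, 2, 0, 0, 0, 2, 0, 0, 0, 2, 0, 2, 0, 2, 0, 0, 2], [1, 1, 1, 1, 1, (-1), 1, (-1), (-1), 1, 1, 1, (-1), 1, 1, 1, (-1), 1, (-1), 1, (-1), 1, 1, 3]],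
   [[0, 0, 2, 2, 2, 0, 0, 0, 0, 0, 2, 0, 0, 2, 2, 0, 0, 0, 0, 0, 2, 0, 0, 2], [1, 1, (-1), (-1), (-1), 1, 1, 1, 1, 1, (-1), 1, 1, (-1), (-1), 1, 1, 1, 1, 1, (-1), 1, 1, 3]],
   [[0, 0, 0, 2, 2, 0, 0, 2, 2, 0, 2, 2, 0, 0, 0, 0, 0, 0, 2, 0, 0, 0, 0, 2], [1, 1, 1, (-1), (-1), 1, 1, (-1), (-1), 1, (-1), (-1), 1, 1, 1, 1, 1, 1, (-1), 1, 1, 1, 1, 3]],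
   [[0, 0, 0, 2, 0, 0, 0, 0, 2, 0, 2, 0, 0, 0, 2, 0, 0, 2, 0, 0, 0, 2, 2, 2], [1, 1, 1, (-1), 1, 1, 1, 1, (-1), 1, (-1), 1, 1, 1, (-1), 1, 1, (-1), 1, 1, 1, (-1), (-1), 3]],
   [[0, 0, 2, 0, 0, 0, 0, 2, 2, 2, 0, 0, 0, 0, 0, 2, 0, 0, 2, 2, 0, 0, 0, 2], [1, 1, (-1), 1, 1, 1, 1, (-1), (-1), (-1), 1, 1, 1, 1, 1, (-1), 1, 1, (-1), (-1), 1, 1, 1, 3]],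
   [[0, 0, 0, 2, 0, 0, 0, 2, 0, 2, 0, 2, 0, 0, 0, 0, 0, 0, 0, 2, 0, 2, 2, 2], [1, 1, 1, (-1), 1, 1, 1, (-1), 1, (-1), 1, (-1), 1, 1, 1, 1, 1, 1, 1, (-1), 1, (-1), (-1), 3]],
   [[0, 0, 2, 0, 2, 2, 0, 0, 2, 0, 0, 0, 0, 0, 2, 0, 0, 0, 2, 0, 0, 0, 2, 2], [1, 1, (-1), 1, (-1), (-1), 1, 1, (-1), 1, 1, 1, 1, 1, (-1), 1, 1, 1, (-1), 1, 1, 1, (-1), 3]],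
   [[0, 0, 0, 0, 0, 0, 0, 2, 2, 0, 2, 0, 0, 2, 0, 2, 0, 2, 0, 0, 2, 0, 0, 2], [1, 1, 1, 1, 1, 1, 1, (-1), (-1), 1, (-1), 1, 1, (-1), 1, (-1), 1, (-1), 1, 1, (-1), 1, 1, 3]],
   [[0, 0, 0, 0, 2, 2, 0, 2, 0, 0, 0, 2, 0, 2, 0, 0, 0, 0, 0, 0, 2, 0, 2, 2], [1, 1, 1, 1, (-1), (-1), 1, (-1), 1, 1, 1, (-1), 1, (-1), 1, 1, 1, 1, 1, 1, (-1), 1, (-1), 3]],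
   [[0, 2, 2, 2, 2, 0, 2, 0, 0, 0, 0, 0, 0, 0, 0, 2, 0, 0, 2, 0, 0, 0, 0, 2], [1, (-1), (-1), (-1), (-1), 1, (-1), 1, 1, 1, 1, 1, 1, 1, 1, (-1), 1, 1, (-1), 1, 1, 1, 1, 3]],
   [[0, 0, 2, 0, 0, 0, 0, 2, 0, 2, 0, 0, 0, 2, 0, 0, 2, 0, 0, 0, 2, 2, 0, 2], [1, 1, (-1), 1, 1, 1, 1, (-1), 1, (-1), 1, 1, 1, (-1), 1, 1, (-1), 1, 1, 1, (-1), (-1), 1, 3]],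
   [[0, 0, 0, 2, 0, 2, 2, 0, 0, 0, 2, 0, 0, 0, 2, 0, 2, 0, 2, 0, 0, 0, 0, 2], [1, 1, 1, (-1), 1, (-1), (-1), 1, 1, 1, (-1), 1, 1, 1, (-1), 1, (-1), 1, (-1), 1, 1, 1, 1, 3]],
   [[0, 2, 2, 0, 0, 2, 0, 0, 0, 0, 0, 2, 0, 0, 0, 2, 0, 0, 0, 2, 0, 0, 2, 2], [1, (-1), (-1), 1, 1, (-1), 1, 1, 1, 1, 1, (-1), 1, 1, 1, (-1), 1, 1, 1, (-1), 1, 1, (-1), 3]],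
   [[0, 0, 2, 0, 0, 0, 2, 0, 0, 0, 2, 0, 0, 2, 0, 2, 2, 0, 0, 2, 0, 0, 0, 2], [1, 1, (-1), 1, 1, 1, (-1), 1, 1, 1, (-1), 1, 1, (-1), 1, (-1), (-1), 1, 1, (-1), 1, 1, 1, 3]],
   [[0, 2, 0, 0, 0, 2, 0, 2, 0, 0, 0, 0, 0, 0, 2, 0, 2, 0, 0, 0, 0, 2, 2, 2], [1, (-1), 1, 1, 1, (-1), 1, (-1), 1, 1, 1, 1, 1, 1, (-1), 1, (-1), 1, 1, 1, 1, (-1), (-1), 3]],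
   [[0, 0, 2, 2, 0, 2, 0, 0, 0, 2, 0, 2, 0, 0, 0, 0, 0, 0, 2, 0, 2, 0, 0, 2], [1, 1, (-1), (-1), 1, (-1), 1, 1, 1, (-1), 1, (-1), 1, 1, 1, 1, 1, 1, (-1), 1, (-1), 1, 1, 3]],
   [[0, 0, 0, 2, 2, 0, 0, 0, 2, 0, 0, 0, 0, 2, 0, 2, 0, 0, 0, 2, 0, 0, 2, 2], [1, 1, 1, (-1), (-1), 1, 1, 1, (-1), 1, 1, 1, 1, (-1), 1, (-1), 1, 1, 1, (-1), 1, 1, (-1), 3]],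
   [[0, 0, 0, 2, 2, 0, 2, 0, 0, 2, 0, 2, 0, 2, 0, 0, 2, 0, 0, 0, 0, 0, 0, 2], [1, 1, 1, (-1), (-1), 1, (-1), 1, 1, (-1), 1, (-1), 1, (-1), 1, 1, (-1), 1, 1, 1, 1, 1, 1, 3]],
   [[0, 2, 2, 2, 0, 0, 0, 0, 0, 0, 2, 2, 0, 0, 0, 0, 2, 0, 0, 0, 0, 2, 0, 2], [1, (-1), (-1), (-1), 1, 1, 1, 1, 1, 1, (-1), (-1), 1, 1, 1, 1, (-1), 1, 1, 1, 1, (-1), 1, 3]],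
   [[0, 2, 0, 2, 0, 0, 0, 2, 0, 0, 2, 0, 0, 0, 2, 2, 0, 0, 0, 2, 0, 0, 0, 2], [1, (-1), 1, (-1), 1, 1, 1, (-1), 1, 1, (-1), 1, 1, 1, (-1), (-1), 1, 1, 1, (-1), 1, 1, 1, 3]],
   [[0, 0, 2, 0, 0, 0, 0, 0, 2, 0, 0, 0, 2, 0, 0, 0, 2, 0, 0, 2, 0, 2, 2, 2], [1, 1, (-1), 1, 1, 1, 1, 1, (-1), 1, 1, 1, (-1), 1, 1, 1, (-1), 1, 1, (-1), 1, (-1), (-1), 3]],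
   [[0, 0, 0, 0, 0, 0, 2, 2, 0, 2, 0, 0, 2, 0, 2, 0, 2, 0, 0, 2, 0, 0, 0, 2], [1, 1, 1, 1, 1, 1, (-1), (-1), 1, (-1), 1, 1, (-1), 1, (-1), 1, (-1), 1, 1, (-1), 1, 1, 1, 3]],
   [[0, 2, 2, 0, 0, 0, 0, 0, 0, 2, 0, 0, 0, 0, 0, 0, 0, 2, 2, 0, 0, 2, 2, 2], [1, (-1), (-1), 1, 1, 1, 1, 1, 1, (-1), 1, 1, 1, 1, 1, 1, 1, (-1), (-1), 1, 1, (-1), (-1), 3]],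
   [[0, 2, 2, 0, 2, 2, 0, 0, 0, 0, 0, 0, 2, 0, 0, 0, 0, 0, 0, 0, 2, 2, 0, 2], [1, (-1), (-1), 1, (-1), (-1), 1, 1, 1, 1, 1, 1, (-1), 1, 1, 1, 1, 1, 1, 1, (-1), (-1), 1, 3]],
   [[0, 0, 2, 0, 0, 0, 0, 0, 2, 2, 2, 2, 0, 2, 0, 0, 0, 0, 0, 0, 0, 0, 2, 2], [1, 1, (-1), 1, 1, 1, 1, 1, (-1), (-1), (-1), (-1), 1, (-1), 1, 1, 1, 1, 1, 1, 1, 1, (-1), 3]],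
   [[0, 2, 0, 0, 0, 2, 0, 0, 2, 0, 2, 2, 0, 0, 2, 0, 0, 0, 0, 0, 2, 0, 0, 2], [1, (-1), 1, 1, 1, (-1), 1, 1, (-1), 1, (-1), (-1), 1, 1, (-1), 1, 1, 1, 1, 1, (-1), 1, 1, 3]],
   [[0, 0, 2, 0, 2, 0, 2, 2, 2, 0, 0, 0, 2, 2, 0, 0, 0, 0, 0, 0, 0, 0, 0, 2], [1, 1, (-1), 1, (-1), 1, (-1), (-1), (-1), 1, 1, 1, (-1), (-1), 1, 1, 1, 1, 1, 1, 1, 1, 1, 3]],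
   [[0, 2, 0, 0, 0, 0, 2, 2, 2, 0, 0, 0, 0, 0, 2, 0, 0, 2, 2, 0, 0, 0, 0, 2], [1, (-1), 1, 1, 1, 1, (-1), (-1), (-1), 1, 1, 1, 1, 1, (-1), 1, 1, (-1), (-1), 1, 1, 1, 1, 3]],
   [[0, 0, 0, 0, 2, 2, 0, 0, 2, 0, 2, 0, 0, 2, 0, 0, 2, 0, 0, 0, 0, 2, 0, 2], [1, 1, 1, 1, (-1), (-1), 1, 1, (-1), 1, (-1), 1, 1, (-1), 1, 1, (-1), 1, 1, 1, 1, (-1), 1, 3]],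
   [[0, 0, 2, 0, 0, 2, 2, 2, 0, 0, 0, 0, 0, 0, 2, 2, 0, 0, 0, 0, 2, 0, 0, 2], [1, 1, (-1), 1, 1, (-1), (-1), (-1), 1, 1, 1, 1, 1, 1, (-1), (-1), 1, 1, 1, 1, (-1), 1, 1, 3]],
   [[0, 0, 0, 2, 0, 2, 0, 2, 2, 2, 0, 0, 0, 2, 2, 0, 0, 0, 0, 0, 0, 0, 0, 2], [1, 1, 1, (-1), 1, (-1), 1, (-1), (-1), (-1), 1, 1, 1, (-1), (-1), 1, 1, 1, 1, 1, 1, 1, 1, 3]],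
   [[0, 0, 0, 0, 2, 2, 2, 0, 0, 0, 0, 0, 2, 0, 0, 2, 2, 0, 0, 0, 0, 0, 2, 2], [1, 1, 1, 1, (-1), (-1), (-1), 1, 1, 1, 1, 1, (-1), 1, 1, (-1), (-1), 1, 1, 1, 1, 1, (-1), 3]],
   [[0, 0, 0, 2, 0, 0, 2, 0, 2, 2, 0, 0, 2, 0, 0, 0, 0, 0, 2, 0, 0, 0, 2, 2], [1, 1, 1, (-1), 1, 1, (-1), 1, (-1), (-1), 1, 1, (-1), 1, 1, 1, 1, 1, (-1), 1, 1, 1, (-1), 3]],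
   [[0, 0, 2, 0, 0, 0, 2, 0, 2, 0, 2, 0, 0, 0, 0, 0, 0, 0, 2, 0, 2, 2, 0, 2], [1, 1, (-1), 1, 1, 1, (-1), 1, (-1), 1, (-1), 1, 1, 1, 1, 1, 1, 1, (-1), 1, (-1), (-1), 1, 3]],
   [[0, 0, 2, 2, 0, 2, 2, 0, 0, 0, 0, 0, 0, 2, 0, 0, 0, 0, 0, 0, 0, 2, 2, 2], [1, 1, (-1), (-1), 1, (-1), (-1), 1, 1, 1, 1, 1, 1, (-1), 1, 1, 1, 1, 1, 1, 1, (-1), (-1), 3]],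
   [[0, 0, 2, 2, 2, 0, 0, 0, 0, 0, 0, 2, 2, 0, 0, 0, 0, 2, 0, 0, 0, 0, 2, 2], [1, 1, (-1), (-1), (-1), 1, 1, 1, 1, 1, 1, (-1), (-1), 1, 1, 1, 1, (-1), 1, 1, 1, 1, (-1), 3]],
   [[0, 2, 0, 2, 0, 0, 0, 0, 0, 0, 2, 0, 2, 0, 0, 0, 0, 2, 2, 0, 2, 0, 0, 2], [1, (-1), 1, (-1), 1, 1, 1, 1, 1, 1, (-1), 1, (-1), 1, 1, 1, 1, (-1), (-1), 1, (-1), 1, 1, 3]],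
   [[0, 0, 0, 2, 0, 0, 2, 2, 0, 0, 0, 0, 0, 2, 0, 0, 0, 0, 2, 2, 2, 0, 0, 2], [1, 1, 1, (-1), 1, 1, (-1), (-1), 1, 1, 1, 1, 1, (-1), 1, 1, 1, 1, (-1), (-1), (-1), 1, 1, 3]],
   [[0, 0, 0, 0, 2, 0, 2, 2, 0, 0, 0, 2, 0, 0, 0, 2, 0, 2, 0, 2, 0, 0, 0, 2], [1, 1, 1, 1, (-1), 1, (-1), (-1), 1, 1, 1, (-1), 1, 1, 1, (-1), 1, (-1), 1, (-1), 1, 1, 1, 3]],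
   [[0, 2, 0, 0, 0, 2, 2, 0, 0, 0, 2, 0, 0, 0, 0, 2, 0, 2, 0, 0, 0, 2, 0, 2], [1, (-1), 1, 1, 1, (-1), (-1), 1, 1, 1, (-1), 1, 1, 1, 1, (-1), 1, (-1), 1, 1, 1, (-1), 1, 3]],
   [[0, 0, 0, 2, 0, 2, 0, 0, 0, 0, 2, 2, 0, 2, 0, 0, 0, 2, 0, 2, 0, 0, 0, 2], [1, 1, 1, (-1), 1, (-1), 1, 1, 1, 1, (-1), (-1), 1, (-1), 1, 1, 1, (-1), 1, (-1), 1, 1, 1, 3]],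
   [[0, 0, 0, 0, 0, 0, 2, 0, 2, 2, 0, 0, 0, 2, 0, 0, 0, 2, 0, 2, 0, 2, 0, 2], [1, 1, 1, 1, 1, 1, (-1), 1, (-1), (-1), 1, 1, 1, (-1), 1, 1, 1, (-1), 1, (-1), 1, (-1), 1, 3]],
   [[0, 0, 0, 0, 2, 2, 0, 2, 0, 0, 2, 0, 2, 0, 2, 0, 0, 2, 0, 0, 0, 0, 0, 2], [1, 1, 1, 1, (-1), (-1), 1, (-1), 1, 1, (-1), 1, (-1), 1, (-1), 1, 1, (-1), 1, 1, 1, 1, 1, 3]],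
   [[0, 0, 0, 0, 2, 0, 2, 0, 2, 2, 2, 0, 0, 0, 2, 2, 0, 0, 0, 0, 0, 0, 0, 2], [1, 1, 1, 1, (-1), 1, (-1), 1, (-1), (-1), (-1), 1, 1, 1, (-1), (-1), 1, 1, 1, 1, 1, 1, 1, 3]],
   [[0, 0, 2, 0, 0, 2, 0, 2, 2, 0, 0, 2, 0, 0, 0, 0, 0, 2, 0, 0, 0, 2, 0, 2], [1, 1, (-1), 1, 1, (-1), 1, (-1), (-1), 1, 1, (-1), 1, 1, 1, 1, 1, (-1), 1, 1, 1, (-1), 1, 3]],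
   [[0, 0, 2, 0, 2, 0, 0, 0, 2, 0, 0, 2, 0, 0, 0, 2, 2, 0, 0, 0, 2, 0, 0, 2], [1, 1, (-1), 1, (-1), 1, 1, 1, (-1), 1, 1, (-1), 1, 1, 1, (-1), (-1), 1, 1, 1, (-1), 1, 1, 3]],
   [[0, 0, 0, 0, 2, 0, 0, 0, 0, 0, 0, 0, 2, 2, 0, 0, 2, 2, 0, 2, 2, 0, 0, 2], [1, 1, 1, 1, (-1), 1, 1, 1, 1, 1, 1, 1, (-1), (-1), 1, 1, (-1), (-1), 1, (-1), (-1), 1, 1, 3]],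
   [[0, 0, 0, 0, 2, 0, 0, 0, 0, 2, 2, 2, 0, 0, 0, 0, 0, 2, 0, 0, 2, 2, 0, 2], [1, 1, 1, 1, (-1), 1, 1, 1, 1, (-1), (-1), (-1), 1, 1, 1, 1, 1, (-1), 1, 1, (-1), (-1), 1, 3]],
   [[0, 0, 0, 2, 0, 0, 0, 2, 0, 0, 2, 0, 2, 2, 0, 0, 2, 0, 0, 0, 0, 0, 2, 2], [1, 1, 1, (-1), 1, 1, 1, (-1), 1, 1, (-1), 1, (-1), (-1), 1, 1, (-1), 1, 1, 1, 1, 1, (-1), 3]],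
   [[0, 0, 2, 0, 2, 0, 0, 0, 0, 2, 2, 0, 2, 0, 0, 0, 2, 0, 2, 0, 0, 0, 0, 2], [1, 1, (-1), 1, (-1), 1, 1, 1, 1, (-1), (-1), 1, (-1), 1, 1, 1, (-1), 1, (-1), 1, 1, 1, 1, 3]],
   [[0, 0, 0, 2, 0, 0, 0, 2, 0, 0, 0, 2, 0, 0, 2, 0, 2, 2, 0, 0, 2, 0, 0, 2], [1, 1, 1, (-1), 1, 1, 1, (-1), 1, 1, 1, (-1), 1, 1, (-1), 1, (-1), (-1), 1, 1, (-1), 1, 1, 3]],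
   [[0, 2, 2, 0, 0, 0, 0, 0, 0, 0, 0, 0, 0, 0, 2, 0, 2, 0, 2, 2, 2, 0, 0, 2], [1, (-1), (-1), 1, 1, 1, 1, 1, 1, 1, 1, 1, 1, 1, (-1), 1, (-1), 1, (-1), (-1), (-1), 1, 1, 3]],
   [[0, 2, 0, 0, 0, 0, 0, 0, 0, 0, 2, 0, 0, 2, 0, 0, 0, 0, 0, 2, 2, 2, 2, 2], [1, (-1), 1, 1, 1, 1, 1, 1, 1, 1, (-1), 1, 1, (-1), 1, 1, 1, 1, 1, (-1), (-1), (-1), (-1), 3]],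
   [[0, 0, 0, 0, 0, 0, 2, 2, 0, 0, 0, 0, 2, 0, 0, 0, 0, 2, 0, 0, 2, 2, 2, 2], [1, 1, 1, 1, 1, 1, (-1), (-1), 1, 1, 1, 1, (-1), 1, 1, 1, 1, (-1), 1, 1, (-1), (-1), (-1), 3]]]

end Cfsg.Agent.LeechOrbit
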