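import Cfsg.Agent.Lib.LeechOrbit.Cert
import Cfsg.Agent.Lib.LeechOrbit.U35Data
import Cfsg.Agent.Lib.U35.Data

/-! Kernel checks for the stabiliser of one of the 352 vectors. -/

set_option autoImplicit false
set_option maxRecDepth 20000
set_option Elab.async false

namespace Cfsg.Agent.LeechOrbit

open Cfsg.Agent.LeechMod Cfsg.Agent.SporPerm Cfsg.Agent.PermCert Cfsg.Agent.U35

theorem u35_pts : ptsOK 126 u35Pts = true := by decide +kernel

theorem u35_light : lightCert 7 126 g35Gens g35Derived g35Levels = true := by decide +kernel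

/-- The checks for one generator. -/
def genOK (M : List (List ℤ)) (e : Elt) : Bool :=
  matOK M && validElt 7 126 e && imageOK 7 126 u35Pts M e.1 && imageOK 7 126 u35Pts (transposeRows M) e.2 &&
    fixOK M uList && fixOK M dList && fixOK M (dec 24 hsARoot)

theorem u35_gen0 : genOK u35Mat0 (g35Gens.getD 0 (0, 0)) = true := by decide +kernel

theorem u35_gen1 : genOK u35Mat1 (g35Gens.getD 1 (0, 0)) = true := by decide +kernel

end Cfsg.Agent.LeechOrbit
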