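import Cfsg.Agent.Lib.LeechOrbit.Levels
import Cfsg.Agent.Lib.LeechOrbit.U35Cert
import Cfsg.Agent.Lib.U35.Model
import Cfsg.Agent.Lib.PSUField.Congr

/-!
The Higman-Sims group on 352 vectors, with point stabiliser U₃(5).
-/

set_option autoImplicit false
set_option maxRecDepth 10000

namespace Cfsg.Agent.LeechOrbit

open Cfsg Cfsg.Agent.Golay Cfsg.Agent.Leech Cfsg.Agent.LeechMod Cfsg.Agent.SporPerm
open MulAction (stabilizer orbit)

/-- The 352 vectors. -/
def hsSet352 (u u' : leechLattice) : Set leechLattice := {x | ip x x = 4 ∧ ip u x = 2 ∧ ip u' x = -3}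

theorem ip_neg_right (x y : leechLattice) : ip x (-y) = -ip x y := by
  rw [ip_comm, LatticeMod2.neg_left rootless_ip, ip_comm]

theorem ip_neg_neg (x : leechLattice) : ip (-x) (-x) = ip x x := by
  rw [LatticeMod2.neg_left rootless_ip, ip_neg_right, neg_neg]

theorem ip_dVec_eq (x : leechLattice) : ip dVec x = ip vec6 x + ip vec6' x := rootless_ip.add _ _ _

theorem smul_hsSet352 (g : Co0) (u u' : leechLattice) :
    hsSet352 (g • u) (g • u') = (fun x => g • x) '' hsSet352 u u' := by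
  ext x
  constructor
  · rintro ⟨h1, h2, h3⟩
    exact ⟨g⁻¹ • x, ⟨(co0_ip _ _ _).trans h1, by rw [← co0_ip g, smul_inv_smul]; exact h2,
      by rw [← co0_ip g, smul_inv_smul]; exact h3⟩, smul_inv_smul g x⟩
  · rintro ⟨x, ⟨h1, h2, h3⟩, rfl⟩
    exact ⟨(co0_ip _ _ _).trans h1, (co0_ip _ _ _).trans h2, (co0_ip _ _ _).trans h3⟩

theorem std352 : ∃ y : leechLattice, toVec (dec 24 hsARoot) = (y : GolayPt → ℤ) ∧
    hsSet352 vec6 vec6' = (fun x => -x) '' orbit co3H y ∧ (orbit co3H y).ncard = 352 := by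
  obtain ⟨y₁, hy₁, _, _, _, _, _, _, n1, -, -, -, -, hO⟩ := co3_levels
  obtain ⟨y, hv, a, b, c⟩ := rootOK_spec hs_roots.1 toVec_uList toVec_dList
  have hy : y ∈ orbit co3H y₁ := by rw [hO]; exact ⟨⟨a, b⟩, by rw [ip_x0, c]⟩
  have he : orbit co3H y = orbit co3H y₁ := MulAction.orbit_eq_iff.2 hy
  refine ⟨y, hv, ?_, by rw [he, n1]⟩
  rw [he, hO]
  ext x
  constructor
  · rintro ⟨h1, h2, h3⟩
    refine ⟨-x, ⟨⟨(ip_neg_neg x).trans h1, by rw [ip_neg_right, h2]⟩, ?_⟩, neg_neg x⟩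
    show ip x0 (-x) = -1
    rw [ip_neg_right, ip_x0, ip_dVec_eq, h2, h3]; norm_num
  · rintro ⟨z, ⟨⟨h1, h2⟩, h3⟩, rfl⟩
    have h3' : ip x0 z = -1 := h3
    rw [ip_x0, ip_dVec_eq, h2] at h3'
    exact ⟨(ip_neg_neg z).trans h1, by rw [ip_neg_right, h2]; norm_num, by rw [ip_neg_right]; omega⟩

theorem ncard352 {u u' : leechLattice} (hu : ip u u = 6) (hu' : ip u' u' = 6) (h : ip u u' = -4) :
    (hsSet352 u u').ncard = 352 := by
  obtain ⟨g, g1, g2⟩ := (exists_hs_std hu hu' h).1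
  obtain ⟨y, -, hset, hn⟩ := std352
  have e : hsSet352 u u' = (fun x => g⁻¹ • x) '' hsSet352 vec6 vec6' := by
    rw [← smul_hsSet352, ← g1, ← g2, inv_smul_smul, inv_smul_smul]
  rw [e, Set.ncard_image_of_injective _ (MulAction.injective _), hset,
    Set.ncard_image_of_injective _ neg_injective, hn]

theorem exists_std352 {u u' x : leechLattice} (hu : ip u u = 6) (hu' : ip u' u' = 6) (h : ip u u' = -4)
    (hx : x ∈ hsSet352 u u') {y : leechLattice} (hv : toVec (dec 24 hsARoot) = (y : GolayPt → ℤ)) :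
    ∃ g : Co0, g • vec6 = u ∧ g • vec6' = u' ∧ g • (-y) = x := by
  obtain ⟨g, g1, g2⟩ := (exists_hs_std hu hu' h).1
  obtain ⟨y', hv', hset, -⟩ := std352
  obtain rfl : y' = y := Subtype.ext (hv'.symm.trans hv)
  have hx' : g • x ∈ hsSet352 vec6 vec6' := by
    rw [← g1, ← g2, smul_hsSet352]; exact ⟨x, hx, rfl⟩
  rw [hset] at hx'
  obtain ⟨_, ⟨⟨k, hk⟩, rfl⟩, hkx⟩ := hx'
  rw [co3H_eq] at hk
  refine ⟨g⁻¹ * k, ?_, ?_, ?_⟩
  · rw [mul_smul, show k • vec6 = vec6 from hk.1, ← g1, inv_smul_smul]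
  · rw [mul_smul, show k • vec6' = vec6' from hk.2, ← g2, inv_smul_smul]
  · rw [mul_smul, co0_neg, show -(k • y') = g • x from hkx, inv_smul_smul]

theorem stab_iso_G126 {y : leechLattice} (hv : toVec (dec 24 hsARoot) = (y : GolayPt → ℤ)) :
    Nonempty (↥(stabilizer Co0 vec6 ⊓ stabilizer Co0 vec6' ⊓ stabilizer Co0 (-y)) ≃* U35.G126) := by
  obtain ⟨_, hv', hset, -⟩ := std352
  have hy : -y ∈ hsSet352 vec6 vec6' := by
    rw [Subtype.ext (hv.symm.trans hv'), hset]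
    exact ⟨_, MulAction.mem_orbit_self _, rfl⟩
  have hcard : Nat.card (hsSub ⊓ stabilizer Co0 (-y) : Subgroup Co0) = 126000 := by
    have := card_stab_mul hsSub (-y) (hsSet352 vec6 vec6') hy
      (fun g hg x hx => by
        rw [← show g • vec6 = vec6 from hg.1, ← show g • vec6' = vec6' from hg.2, smul_hsSet352]
        exact ⟨x, hx, rfl⟩)
      (fun x hx => by
        obtain ⟨g, g1, g2, g3⟩ := exists_std352 norm_vec6 norm_vec6' ip_vec6_vec6' hx hv
        exact ⟨g, ⟨g1, g2⟩, g3⟩)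
    rw [card_hsSub, ncard352 norm_vec6 norm_vec6' ip_vec6_vec6'] at this
    omega
  have key : ∀ M e, genOK M e = true → ∃ g ∈ hsSub ⊓ stabilizer Co0 (-y),
      ((g, PermCert.toPerm 7 126 e) : Co0 × Equiv.Perm (Fin 126)) ∈ rel 126 u35Pts := by
    intro M e h
    simp only [genOK, Bool.and_eq_true] at h
    obtain ⟨⟨⟨⟨⟨⟨hM, he⟩, h1⟩, h2⟩, f0⟩, f1⟩, f2⟩ := h
    obtain ⟨g, hg, hg'⟩ := exists_of_matOK hM
    have e6 : g • vec6 = vec6 := smul_eq_of_fixOK hM f0 hg toVec_uList.symm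
    have ed : g • dVec = dVec := smul_eq_of_fixOK hM f1 hg toVec_dList.symm
    refine ⟨g, ⟨⟨e6, ?_⟩, ?_⟩, mem_rel u35_pts he hM h1 h2 hg hg'⟩
    · show g • vec6' = vec6'
      rw [show vec6' = dVec - vec6 by rw [dVec]; abel, co0_sub, ed, e6]
    · show g • (-y) = -y
      rw [co0_neg, smul_eq_of_fixOK hM f2 hg hv.symm]
  exact (exists_equiv u35_pts (hsSub ⊓ stabilizer Co0 (-y)) u35_light (by rw [hcard, U35.g35_order])
    (fun e he => by
      obtain ⟨i, hi, rfl⟩ := List.mem_iff_getElem.1 he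
      have hi' := U35.length_gens ▸ hi
      rw [← List.getD_eq_getElem _ (0, 0) hi]
      interval_cases i
      exacts [key _ _ u35_gen0, key _ _ u35_gen1])).2

theorem stab352 {u u' x : leechLattice} (hu : ip u u = 6) (hu' : ip u' u' = 6) (h : ip u u' = -4)
    (hx : x ∈ hsSet352 u u') (F : Type) [Field F] [Fintype F] (hF : Fintype.card F = 25) :
    Nonempty (↥(stabilizer Co0 u ⊓ stabilizer Co0 u' ⊓ stabilizer Co0 x) ≃* Cfsg.PSU 3 F 5) := by
  obtain ⟨y, hv, -, -⟩ := std352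
  obtain ⟨g, g1, g2, g3⟩ := exists_std352 hu hu' h hx hv
  obtain ⟨e⟩ := stab_iso_G126 hv
  have hmap : (stabilizer Co0 vec6 ⊓ stabilizer Co0 vec6' ⊓ stabilizer Co0 (-y)).map
      (MulAut.conj g).toMonoidHom = stabilizer Co0 u ⊓ stabilizer Co0 u' ⊓ stabilizer Co0 x := by
    rw [← g1, ← g2, ← g3, MulAction.stabilizer_smul_eq_stabilizer_map_conj,
      MulAction.stabilizer_smul_eq_stabilizer_map_conj, MulAction.stabilizer_smul_eq_stabilizer_map_conj,
      Subgroup.map_inf _ _ _ (MulAut.conj g).injective, Subgroup.map_inf _ _ _ (MulAut.conj g).injective]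
  obtain ⟨c⟩ := PSUField.nonempty_congr (n := 3) (q := 5)
    (FiniteField.ringEquivOfCardEq (show Fintype.card U35.F25 = Fintype.card F by rw [U35.F25.card, hF]))
  exact ⟨(((MulEquiv.subgroupCongr hmap.symm).trans ((MulAut.conj g).subgroupMap _).symm).trans e).trans
    (U35.psuEquiv.symm.trans c)⟩

end Cfsg.Agent.LeechOrbit
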